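import Mathlib
import Cfsg.Agent.Base
import Cfsg.Agent.Lib.R3.Bridge
import Cfsg.Agent.Lib.R3.Foc
import Cfsg.Agent.Lib.Fusion.Simple
import Cfsg.Agent.Lib.Fusion.SysIso

/-! Fusion systems over a Sylow `3`-subgroup of the Thompson group: the abstract configuration. -/

set_option autoImplicit false

namespace H18.TH

open Subgroup H2 H90 H91 H93.R3 Cfsg Cfsg.FusionSystem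
open scoped commutatorElement Pointwise

local notation:max "𝐍(" A ")" => Subgroup.normalizer (SetLike.coe A)
local notation:max "𝐂(" A ")" => Subgroup.centralizer (SetLike.coe A)

universe u

/-- The subgroups of `S` that matter. -/
structure Dat (Γ : Type u) [Group Γ] where
  (S E₁ E₂ Z₁ Z₂ Z₃ Z₄ V X A U Y : Subgroup Γ)
  (z₁ z₂ : Γ)

variable {Γ : Type u} [Group Γ]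

/-- The facts about `S` (order `3 ^ 10`) used by the fusion arguments. -/
structure Dat.Ok (D : Dat Γ) : Prop where
  pS : IsPGroup 3 D.S
  lS : lg 3 D.S = 10
  l1 : lg 3 D.E₁ = 9
  l2 : lg 3 D.E₂ = 9
  lZ1 : lg 3 D.Z₁ = 1
  lZ2 : lg 3 D.Z₂ = 2
  lZ3 : lg 3 D.Z₃ = 3
  lZ4 : lg 3 D.Z₄ = 4
  lV : lg 3 D.V = 5
  lX : lg 3 D.X = 6
  lA : lg 3 D.A = 7
  lU : lg 3 D.U = 5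
  lY : lg 3 D.Y = 3
  z12 : D.Z₁ ≤ D.Z₂
  z23 : D.Z₂ ≤ D.Z₃
  z34 : D.Z₃ ≤ D.Z₄
  z4V : D.Z₄ ≤ D.V
  vX : D.V ≤ D.X
  xE1 : D.X ≤ D.E₁
  xE2 : D.X ≤ D.E₂
  e1S : D.E₁ ≤ D.S
  e2S : D.E₂ ≤ D.S
  z2Y : D.Z₂ ≤ D.Y
  yU : D.Y ≤ D.U
  yV : D.Y ≤ D.V
  uA : D.U ≤ D.A
  vA : D.V ≤ D.A
  aE : D.A ≤ D.E₁
  n21 : ¬ D.E₂ ≤ D.E₁
  gz1 : D.Z₁ = zpowers D.z₁
  gz2 : D.Z₂ = zpowers D.z₁ ⊔ zpowers D.z₂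
  eaV : EA 3 D.V
  eaU : EA 3 D.U
  cZ1 : D.S ≤ 𝐂(D.Z₁)
  zS : D.S ⊓ 𝐂(D.S) ≤ D.Z₁
  cZ2 : D.S ⊓ 𝐂(D.Z₂) = D.E₁
  sZ2 : ⁅D.S, D.Z₂⁆ = D.Z₁
  sZ3 : ⁅D.S, D.Z₃⁆ ⊔ D.Z₁ = D.Z₂
  r3 : D.Z₃ ⊓ relCentralizer D.S D.Z₁ = D.Z₂
  e2Z3 : ⁅D.E₂, D.Z₃⁆ ≤ D.Z₁
  nS1 : 𝐍(D.S) ≤ 𝐍(D.E₁)
  nS2 : 𝐍(D.S) ≤ 𝐍(D.E₂)
  n1Z : 𝐍(D.E₁) ≤ 𝐍(D.Z₂)
  n1V : 𝐍(D.E₁) ≤ 𝐍(D.V)
  n2Z1 : 𝐍(D.E₂) ≤ 𝐍(D.Z₁)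
  n2Z3 : 𝐍(D.E₂) ≤ 𝐍(D.Z₃)
  n2X : 𝐍(D.E₂) ≤ 𝐍(D.X)
  n13 : 𝐍(D.E₁) ⊓ 𝐍(D.Z₃) ≤ 𝐍(D.Z₁)
  n14 : 𝐍(D.E₁) ⊓ 𝐍(D.Z₄) ≤ 𝐍(D.Z₁)
  n2V : 𝐍(D.E₂) ⊓ 𝐍(D.V) ≤ 𝐍(D.Z₂)
  n26 : 𝐍(D.E₂) ⊓ 𝐍(D.E₁ ⊓ D.E₂) ≤ 𝐍(D.Z₂)
  ch2 : ∃ X₁ X₂ X₃ : Subgroup Γ, X₃ ≤ X₂ ∧ X₂ ≤ X₁ ∧ X₁ ≤ D.E₂ ∧
    𝐍(D.E₂) ⊓ 𝐍(D.Z₂) ≤ 𝐍(X₁) ∧ 𝐍(D.E₂) ⊓ 𝐍(D.Z₂) ≤ 𝐍(X₂) ∧ 𝐍(D.E₂) ⊓ 𝐍(D.Z₂) ≤ 𝐍(X₃) ∧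
    ⁅D.S, D.E₂⁆ ≤ X₁ ∧ ⁅D.S, X₁⁆ ≤ X₂ ∧ ⁅D.S, X₂⁆ ≤ X₃ ∧ ⁅D.S, X₃⁆ ≤ ph D.E₂
  uni : ∀ W : Subgroup Γ, D.S ≤ 𝐍(W) → D.Z₂ ≤ W → W ≤ D.V →
    W = D.Z₂ ∨ W = D.Z₃ ∨ W = D.Z₄ ∨ W = D.V
  rV : D.E₁ ⊓ relCentralizer D.E₁ D.Z₂ ≤ D.V
  rX : D.E₁ ⊓ relCentralizer D.V D.Z₁ = D.X
  nclX : ∀ z ∈ D.Z₂, z ∉ D.Z₁ → ∀ W : Subgroup Γ, D.S ≤ 𝐍(W) → D.X ≤ W →
    D.E₁ ⊓ relCentralizer D.V (zpowers z) ≤ W → D.E₁ ≤ W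
  nclA : ∀ W : Subgroup Γ, D.S ≤ 𝐍(W) → D.A ≤ W → D.E₁ ≤ W
  c11 : ⁅D.E₁, D.E₁⁆ ≤ D.V
  c1V : ⁅D.E₁, D.V⁆ ≤ D.Z₂
  p1 : ∀ x ∈ D.E₁, x ^ 3 ∈ D.V
  vph : D.V ≤ ph D.E₁
  pts : ∃ x w : Fin 4 → Γ, (∀ i, w i ∈ D.Z₂ ∧ x i ∈ D.E₁ ∧
    D.E₁ ⊓ relCentralizer D.V (zpowers (w i)) = D.V ⊔ zpowers (x i)) ∧
    D.E₁ ≤ D.V ⊔ closure (Set.range x) ∧ ∀ j, ∃ i, ⁅⁅x i, x j⁆, x i⁆ ≠ 1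
  nU : D.S ⊓ 𝐍(D.U) = D.A
  aU : ⁅D.A, D.U⁆ ≤ D.Z₂
  aY : D.A ≤ 𝐂(D.Y)
  fixU : ∀ t ∈ D.A, t ∉ D.U → ∀ u ∈ D.U, ⁅t, u⁆ = 1 → u ∈ D.Y
  uV : D.U ⊓ D.V ≤ D.Y
  aUV : D.A ≤ D.U ⊔ D.V
  nA : D.S ⊓ 𝐍(D.A) = D.E₁
  zA : D.A ⊓ 𝐂(D.A) = D.Y
  dA : ⁅D.A, D.A⁆ = D.Z₂
  cY : D.S ⊓ 𝐂(D.Y) ≤ D.A
  e1Y : ⁅D.E₁, D.Y⁆ ≤ D.Z₂

/-- `E` is essential in the fusion system of `Γ` on `S`. -/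
abbrev Es (S E : Subgroup Γ) : Prop := (groupFusionSystem S).IsEssential 3 E

/-- The fusion system of `Γ` on `S` is saturated. -/
abbrev Sat (S : Subgroup Γ) : Prop := (groupFusionSystem S).IsSaturated 3

/-- The list of the candidates for essential subgroups. -/
def Dat.Cls (D : Dat Γ) : Prop :=
  ∀ E, Es D.S E → E = D.E₁ ∨ E = D.E₂ ∨ ∃ s ∈ D.S, E = cn s D.U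

/-- `M` is the preimage of a strongly `3`-embedded subgroup of `N(E) / E C(E)`. -/
structure Emb (S E M : Subgroup Γ) : Prop where
  le : 𝐍(E) ⊓ 𝐍(S ⊓ 𝐍(E)) ⊔ 𝐂(E) ≤ M
  ne : ¬ 𝐍(E) ≤ M
  p3 : ∀ t ∈ S ⊓ 𝐍(E), t ∉ E → ∀ a ∈ 𝐍(E), a⁻¹ * t * a ∈ M → a ∈ M
  p4 : ∀ t₁ ∈ S ⊓ 𝐍(E), t₁ ∉ E → ∀ t₂ ∈ S ⊓ 𝐍(E), t₂ ∉ E → ∀ a ∈ 𝐍(E), ∀ Q ≤ 𝐍(E),
    (∀ x ∈ Q, (orderOf x).Coprime 3 → x ∈ 𝐂(E)) → t₁ ∈ Q → a * t₂ * a⁻¹ ∈ Q → a ∈ M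

/-- `g` acts on `⟨z₁, z₂⟩` with determinant `d`. -/
def Dt (z₁ z₂ g : Γ) (d : ZMod 3) : Prop := ∃ a b c e : ℤ, g * z₁ * g⁻¹ = z₁ ^ a * z₂ ^ b ∧
  g * z₂ * g⁻¹ = z₁ ^ c * z₂ ^ e ∧ ((a * e - b * c : ℤ) : ZMod 3) = d

/-- The elements of `N(P)` acting on `P` as a map of `E`. -/
def RE {T : Subgroup Γ} (E : FusionSystem T) (P : Subgroup Γ) : Subgroup Γ where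
  carrier := {g | g ∈ 𝐍(P) ∧ (P ≤ T → Map E P (cj g))}
  one_mem' := ⟨one_mem _, fun h => by rw [map_one]; exact map_one_perm E h⟩
  mul_mem' := fun {a b} ha hb => ⟨mul_mem ha.1 hb.1, fun h => by
    rw [map_mul]; exact (hb.2 h).mul (ha.2 h) fun x hx => conj_mem hb.1 hx⟩
  inv_mem' := fun {a} ha => ⟨inv_mem ha.1, fun h => by
    rw [← cj_inv]
    exact (ha.2 h).inv' fun y hy => by rw [cj_inv]; simpa using conj_mem' ha.1 hy⟩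

theorem mem_RE {T P : Subgroup Γ} {E : FusionSystem T} (h : P ≤ T) {g : Γ} :
    g ∈ RE E P ↔ g ∈ 𝐍(P) ∧ Map E P (cj g) :=
  ⟨fun e => ⟨e.1, e.2 h⟩, fun e => ⟨e.1, fun _ => e.2⟩⟩

variable [Finite Γ] {S E : Subgroup Γ}

theorem emb_of (hS : IsPGroup 3 S) (hF : Sat S) (hE : Es S E) : ∃ M, Emb S E M :=
  let ⟨M, h1, h2, h3, h4⟩ := exists_emb hS hF hE
  ⟨M, h1, h2, h3, h4⟩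

theorem Emb.sM {M : Subgroup Γ} (h : Emb S E M) : S ⊓ 𝐍(E) ≤ M :=
  (le_inf inf_le_right le_normalizer).trans (le_sup_left.trans h.le)

theorem ess_cn (hS : IsPGroup 3 S) (hF : Sat S) (hE : Es S E) {s : Γ} (hs : s ∈ S) :
    Es S (cn s E) := by
  have i := (sysAut_of_iso (iso_cj (groupFusionSystem S) le_rfl hs (le_normalizer hs))).sysIso
  have := ess_image hS hF i.quot_homOf i.ker_homOf hE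
  rwa [image_eq_im (fun x hx => ex_homOf i.hom hx) hE.1.1, im_cj_eq_map] at this

/-- A subgroup normal in `S` is fully normalized. -/
theorem fn_of_norm (hE : E ≤ S) (hn : S ≤ 𝐍(E)) : (groupFusionSystem S).IsFullyNormalized E :=
  ⟨hE, fun Q _ => H90.card_le_of_le ((normalizerIn_le S Q).trans (le_inf le_rfl hn))⟩

theorem th3defs_eq : True := trivial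

end H18.TH
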