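import Mathlib
import Cfsg.Agent.Base
import Cfsg.Agent.Lib.TH3.Defs

set_option autoImplicit false

namespace H18.TH

open Subgroup H2 H90 H91 H93.R3 Cfsg Cfsg.FusionSystem
open scoped commutatorElement Pointwise

local notation:max "𝐍(" A ")" => Subgroup.normalizer (SetLike.coe A)
local notation:max "𝐂(" A ")" => Subgroup.centralizer (SetLike.coe A)

universe u

variable {Γ : Type u} [Group Γ] [Finite Γ] {S E M T P Q : Subgroup Γ} {D : Dat Γ}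

omit [Finite Γ] in
theorem kl_le {X : ℕ → Subgroup Γ} {k : ℕ} (h0 : X 0 = E) (hm : ∀ i < k, X (i + 1) ≤ X i) :
    ∀ i ≤ k, X i ≤ E := by
  intro i
  induction i with
  | zero => exact fun _ => h0.le
  | succ i ih => exact fun hi => (hm i (by omega)).trans (ih (by omega))

omit [Finite Γ] in
theorem kl_step {X Y : Subgroup Γ} {t : Γ} (hX : X ≤ E) (ht : t ∈ 𝐍(E))
    (c : ∀ x ∈ X, ⁅t, x⁆ ∈ Y) : ∀ y ∈ X ⊔ ph E, ⁅t, y⁆ ∈ Y ⊔ ph E := by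
  intro y hy
  have hn : X ≤ 𝐍(ph E) := norm_ph (norm_self hX)
  obtain ⟨a, ha, f, hf, rfl⟩ := (mem_sup_iff' hn).1 hy
  have e : ⁅t, a * f⁆ = ⁅t, a⁆ * (a * ⁅t, f⁆ * a⁻¹) := by
    simp only [commutatorElement_def]; group
  rw [e]
  exact mul_mem (mem_sup_left (c a ha))
    (mem_sup_right (conj_mem (hn ha) (comm_mem_r (norm_ph le_rfl ht) hf)))

theorem kl_mem {X : ℕ → Subgroup Γ} {k : ℕ} (h0 : X 0 = E)
    (hm : ∀ i < k, X (i + 1) ≤ X i) (hk : X k ≤ ph E) {t : Γ} (ht : t ∈ 𝐍(E))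
    (c : ∀ i < k, ∀ x ∈ X i, ⁅t, x⁆ ∈ X (i + 1)) :
    t ∈ 𝐍(E) ⊓ ⨅ i, ⨅ (_ : i < k), relCentralizer (X i ⊔ ph E) (X (i + 1) ⊔ ph E) := by
  refine ⟨ht, mem_iInf.2 fun i => mem_iInf.2 fun hi => mem_rc.2
    ⟨?_, kl_step (kl_le h0 hm i hi.le) ht (c i hi)⟩⟩
  rcases Nat.lt_or_ge (i + 1) k with h | h
  · refine mem_norm fun y hy => ?_
    have e : t * y * t⁻¹ = ⁅t, y⁆ * y := by simp only [commutatorElement_def]; group
    rw [e]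
    exact mul_mem (sup_le_sup_right (hm _ h) _ (kl_step (kl_le h0 hm _ h.le) ht (c _ h) y hy)) hy
  · obtain rfl : k = i + 1 := by omega
    rw [sup_eq_right.2 hk]
    exact norm_ph le_rfl ht

/-- Two elements of different components do not stabilize a common chain. -/
theorem Emb.link (h : Emb S E M) (pE : IsPGroup 3 E) {X : ℕ → Subgroup Γ} {k : ℕ} (h0 : X 0 = E)
    (hm : ∀ i < k, X (i + 1) ≤ X i) (hk : X k ≤ ph E) {t₁ t₂ a : Γ} (h1 : t₁ ∈ S ⊓ 𝐍(E))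
    (h1' : t₁ ∉ E) (h2 : t₂ ∈ S ⊓ 𝐍(E)) (h2' : t₂ ∉ E) (ha : a ∈ 𝐍(E))
    (c1 : ∀ i < k, ∀ x ∈ X i, ⁅t₁, x⁆ ∈ X (i + 1))
    (c2 : ∀ i < k, ∀ x ∈ X i, ⁅a * t₂ * a⁻¹, x⁆ ∈ X (i + 1)) : a ∈ M := by
  haveI : Fact (Nat.Prime 3) := ⟨Nat.prime_three⟩
  refine h.p4 t₁ h1 h1' t₂ h2 h2' a ha _ inf_le_left (fun q hq hc => ?_)
    (kl_mem h0 hm hk h1.2 c1)
    (kl_mem h0 hm hk (mul_mem (mul_mem ha h2.2) (inv_mem ha)) c2)
  have key : ∀ i ≤ k, ∀ x ∈ E, ⁅q, x⁆ ∈ X i ⊔ ph E := by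
    intro i
    induction i with
    | zero => exact fun _ x hx => mem_sup_left (h0 ▸ comm_mem_r hq.1 hx)
    | succ i ih =>
      intro hi x hx
      have hr := mem_rc.1 (mem_iInf.1 (mem_iInf.1 hq.2 i) (by omega))
      exact comm_mem_of_coprime (pE.to_le (sup_le (kl_le h0 hm i (by omega)) ph_le_self)) hc hr.1
        (ih (by omega) x hx) hr.2
  refine cent_of_ph pE hc hq.1 fun y hy => ?_
  have := key k le_rfl y hy
  rwa [sup_eq_right.2 hk] at this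

theorem Emb.kl_kill (h : Emb S E M) (pE : IsPGroup 3 E) {X : ℕ → Subgroup Γ} {k : ℕ} (h0 : X 0 = E)
    (hm : ∀ i < k, X (i + 1) ≤ X i) (hk : X k ≤ ph E) (hn : ∀ i ≤ k, 𝐍(E) ≤ 𝐍(X i)) {g : Γ}
    (hg : g ∈ S ⊓ 𝐍(E)) (hg' : g ∉ E) (c : ∀ i < k, ∀ x ∈ X i, ⁅g, x⁆ ∈ X (i + 1)) : False := by
  refine h.ne fun a ha => h.link pE h0 hm hk hg hg' hg hg' ha c fun i hi x hx => ?_
  have e : ⁅a * g * a⁻¹, x⁆ = a * ⁅g, a⁻¹ * x * a⁆ * a⁻¹ := by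
    simp only [commutatorElement_def]; group
  rw [e]
  exact conj_mem (hn _ hi ha) (c i hi _ (conj_mem' (hn i hi.le ha) hx))

theorem Emb.kill3 (h : Emb S E M) (pE : IsPGroup 3 E) {X₁ X₂ X₃ : Subgroup Γ} (l1 : X₁ ≤ E)
    (l2 : X₂ ≤ X₁) (l3 : X₃ ≤ X₂) (n1 : 𝐍(E) ≤ 𝐍(X₁)) (n2 : 𝐍(E) ≤ 𝐍(X₂)) (n3 : 𝐍(E) ≤ 𝐍(X₃))
    {g : Γ} (hg : g ∈ S ⊓ 𝐍(E)) (hg' : g ∉ E) (c0 : ∀ x ∈ E, ⁅g, x⁆ ∈ X₁)
    (c1 : ∀ x ∈ X₁, ⁅g, x⁆ ∈ X₂) (c2 : ∀ x ∈ X₂, ⁅g, x⁆ ∈ X₃) (c3 : ∀ x ∈ X₃, ⁅g, x⁆ ∈ ph E) :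
    False := by
  refine h.kl_kill pE (X := fun i => [E, X₁, X₂, X₃].getD i (X₃ ⊓ ph E)) (k := 4) rfl ?_
    inf_le_right ?_ hg hg' ?_
  · intro i hi
    interval_cases i
    · exact l1
    · exact l2
    · exact l3
    · exact inf_le_left
  · intro i hi
    interval_cases i
    · exact le_rfl
    · exact n1
    · exact n2
    · exact n3
    · exact norm_inf n3 (norm_ph le_rfl)
  · intro i hi
    interval_cases i
    · exact c0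
    · exact c1
    · exact c2
    · exact fun x hx => ⟨comm_mem_r (n3 hg.2) hx, c3 x hx⟩

theorem Emb.kill0 (h : Emb S E M) (pE : IsPGroup 3 E) {g : Γ} (hg : g ∈ S ⊓ 𝐍(E)) (hg' : g ∉ E)
    (c0 : ∀ x ∈ E, ⁅g, x⁆ ∈ ph E) : False :=
  h.kill3 pE ph_le_self le_rfl le_rfl (norm_ph le_rfl) (norm_ph le_rfl) (norm_ph le_rfl) hg hg' c0
    (fun x hx => c0 x (ph_le_self hx)) (fun x hx => c0 x (ph_le_self hx))
    fun x hx => c0 x (ph_le_self hx)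

/-- A chain through the subgroup generated by the elements with an invariant property. -/
theorem Emb.killP (h : Emb S E M) (pE : IsPGroup 3 E) (W : Γ → Prop)
    (hW : ∀ a ∈ 𝐍(E), ∀ x ∈ E, W x → W (a * x * a⁻¹)) {g : Γ} (hg : g ∈ S ⊓ 𝐍(E)) (hg' : g ∉ E)
    (c0 : ∀ x ∈ E, ⁅g, x⁆ ∈ ph E ⊔ closure {y | y ∈ E ∧ W y})
    (c1 : ∀ x ∈ E, W x → ⁅g, x⁆ ∈ ph E) : False := by
  have n0 : 𝐍(E) ≤ 𝐍(ph E) := norm_ph le_rfl
  have c : ∀ x ∈ ph E, ⁅g, x⁆ ∈ ph E := fun x hx => comm_mem_r (n0 hg.2) hx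
  refine h.kill3 pE (sup_le ph_le_self ((closure_le _).2 fun y hy => hy.1)) le_sup_left le_rfl
    (norm_sup n0 (le_norm fun a ha x hx => ?_)) n0 n0 hg hg' c0 (fun x hx => ?_) c c
  · have : closure {y | y ∈ E ∧ W y} ≤ cn a⁻¹ (closure {y | y ∈ E ∧ W y}) :=
      (closure_le _).2 fun y hy => mem_cn.2 (by
        rw [inv_inv]; exact subset_closure ⟨conj_mem ha hy.1, hW a ha y hy.1 hy.2⟩)
    simpa using mem_cn.1 (this hx)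
  · have : ph E ⊔ closure {y | y ∈ E ∧ W y} ≤ cz g (ph E) :=
      sup_le (fun y hy => mem_cz.2 ⟨le_normalizer hy, comm_symm (c y hy)⟩)
        ((closure_le _).2 fun y hy =>
          mem_cz.2 ⟨norm_ph (norm_self le_rfl) hy.1, comm_symm (c1 y hy.1 hy.2)⟩)
    exact comm_symm (mem_cz.1 (this hx)).2

section Lin

variable {V : Type u} [CommGroup V] (A : Act 3 𝐍(E) E (ph E) V)

omit [Finite Γ] in
theorem kl_pre (W : Subgroup V) {x : Γ} :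
    x ∈ (W.comap A.φ).map E.subtype ↔ x ∈ E ∧ A.π x ∈ W := by
  constructor
  · rintro ⟨y, hy, rfl⟩
    exact ⟨y.2, by rw [coe_subtype, A.π_eq y.2]; exact hy⟩
  · rintro ⟨h1, h2⟩
    rw [A.π_eq h1] at h2
    exact ⟨⟨x, h1⟩, h2, rfl⟩

theorem Emb.kl_fix (h : Emb S E M) (pE : IsPGroup 3 E) {g a : Γ} {z₀ : V} (hg : g ∈ S ⊓ 𝐍(E))
    (hg' : g ∉ E) (hτ : H93.Tv (A.t ⟨g, hg.2⟩) z₀) (ha : a ∈ 𝐍(E))
    (hf : A.t ⟨g, hg.2⟩ (A.t ⟨a, ha⟩ z₀) = A.t ⟨a, ha⟩ z₀) : a ∈ M := by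
  have hy : a * g * a⁻¹ ∈ 𝐍(E) := mul_mem (mul_mem ha hg.2) (inv_mem ha)
  have hσ : H93.Tv (A.t ⟨a * g * a⁻¹, hy⟩) (A.t ⟨a, ha⟩ z₀) := by
    have := hτ.conj (A.t ⟨a, ha⟩)
    rwa [← map_mul, ← map_inv, ← map_mul] at this
  set F : Subgroup V := MonoidHom.eqLocus (A.t ⟨g, hg.2⟩).toMonoidHom (MonoidHom.id V) with hF
  have mF : ∀ v, v ∈ F ↔ A.t ⟨g, hg.2⟩ v = v := fun v => Iff.rfl
  have l0 : zpowers z₀ ≤ F := zpowers_le.2 ((mF _).2 hτ.fix)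
  have l1 : zpowers (A.t ⟨a, ha⟩ z₀) ≤ F := zpowers_le.2 ((mF _).2 hf)
  have cm : ∀ (t : Γ) (ht : t ∈ 𝐍(E)) (W W' : Subgroup V), (∀ v ∈ W, v⁻¹ * A.t ⟨t, ht⟩ v ∈ W') →
      ∀ x ∈ (W.comap A.φ).map E.subtype, ⁅t, x⁆ ∈ (W'.comap A.φ).map E.subtype := by
    intro t ht W W' hW x hx
    rw [kl_pre] at hx ⊢
    exact ⟨comm_mem_r ht hx.1, by rw [A.π_comm ht hx.1]; exact hW _ hx.2⟩
  refine h.link pE (X := fun i =>
    (([⊤, F, zpowers (A.t ⟨a, ha⟩ z₀)].getD i ⊥).comap A.φ).map E.subtype) (k := 3) ?_ ?_ ?_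
    hg hg' hg hg' ha ?_ ?_
  · ext x
    rw [kl_pre]
    exact ⟨fun h => h.1, fun h => ⟨h, mem_top _⟩⟩
  · intro i hi
    refine map_mono (comap_mono ?_)
    interval_cases i
    · exact le_top
    · exact l1
    · exact bot_le
  · intro x hx
    rw [kl_pre] at hx
    exact (A.π_one hx.1).1 (mem_bot.1 hx.2)
  · intro i hi
    refine cm g hg.2 _ _ fun v hv => ?_
    interval_cases i
    · exact l0 (hτ.mem v)
    · rw [(mF v).1 hv, inv_mul_cancel]; exact one_mem _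
    · rw [(mF v).1 (l1 hv), inv_mul_cancel]; exact one_mem _
  · intro i hi
    refine cm _ hy _ _ fun v hv => ?_
    interval_cases i
    · exact l1 (hσ.mem v)
    · exact hσ.mem v
    · rw [hσ.fix_mem hv, inv_mul_cancel]; exact one_mem _

end Lin

/-- A transvection on `E / Φ(E)` forces `|N_S(E) : E| = 3`. -/
theorem Emb.killT (h : Emb S E M) (pS : IsPGroup 3 S) (hE : E ≤ S) {g z b : Γ}
    (hg : g ∈ S ⊓ 𝐍(E)) (hg' : g ∉ E) (hz : z ∈ E) (c0 : ∀ x ∈ E, ⁅g, x⁆ ∈ ph E ⊔ zpowers z)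
    (hb : b ∈ S ⊓ 𝐍(E)) : b ∈ E ∨ b * g ∈ E ∨ b * g * g ∈ E := by
  haveI : Fact (Nat.Prime 3) := ⟨Nat.prime_three⟩
  have pE : IsPGroup 3 E := pS.to_le hE
  have n0 : 𝐍(E) ≤ 𝐍(ph E) := norm_ph le_rfl
  have nz : z ∈ 𝐍(ph E) := n0 (le_normalizer hz)
  obtain ⟨V, _, _, ⟨A⟩⟩ := exists_act (eq_ph pE) (le_refl 𝐍(E)) n0
  have lX : ph E ⊔ zpowers z ≤ E := sup_le ph_le_self (zpowers_le.2 hz)
  have hgz : ⁅g, z⁆ ∈ ph E := by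
    have gX : g ∈ 𝐍((ph E ⊔ zpowers z : Subgroup Γ)) := mem_norm fun x hx => by
      have e : g * x * g⁻¹ = ⁅g, x⁆ * x := by simp only [commutatorElement_def]; group
      rw [e]; exact mul_mem (c0 x (lX hx)) hx
    have := comm_le_of_lg (S := S ⊓ 𝐍(E) ⊓ 𝐍((ph E ⊔ zpowers z : Subgroup Γ)))
      (pS.to_le (inf_le_left.trans inf_le_left))
      (le_inf (le_inf (lX.trans hE) (norm_self lX)) le_normalizer) le_sup_left
      (lg_sup_zpowers_le nz ((eq_ph pE).pow z hz)) inf_le_right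
      (inf_le_left.trans (inf_le_right.trans n0))
    exact comm_mem this ⟨hg, gX⟩ (mem_sup_right (mem_zpowers z))
  have hτ : H93.Tv (A.t ⟨g, hg.2⟩) (A.π z) := by
    refine ⟨fun v => ?_, (A.comm_iff hg.2 hz).1 hgz⟩
    obtain ⟨x, hx, rfl⟩ := A.π_surj v
    obtain ⟨f, hf, _, ⟨k, rfl⟩, e⟩ := (mem_sup_iff (zpowers_le.2 nz)).1 (c0 x hx)
    rw [← A.π_comm hg.2 hx, e, A.π_mul (ph_le_self hf) (zpow_mem hz k),
      (A.π_one (ph_le_self hf)).2 hf, one_mul, A.π_zpow hz]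
    exact zpow_mem (mem_zpowers _) k
  have g3 : g ^ 3 ∈ E := by
    by_contra h3
    refine h.kill0 pE (pow_mem hg 3) h3 ((A.t_eq_one (pow_mem hg 3).2).1 ?_)
    have := hτ.pow_eq_one (A.exp _)
    rwa [← map_pow] at this
  have P1 : ∀ c d : 𝐍(E), (A.t c * A.t ⟨g, hg.2⟩ * (A.t c)⁻¹) (A.t d (A.π z)) = A.t d (A.π z) →
      c.1⁻¹ * d.1 ∈ M := by
    intro c d e
    refine h.kl_fix A pE hg hg' hτ (c⁻¹ * d).2 ?_
    change A.t ⟨g, hg.2⟩ (A.t (c⁻¹ * d) (A.π z)) = A.t (c⁻¹ * d) (A.π z)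
    rw [map_mul, map_inv, MulAut.mul_apply]
    apply (A.t c).injective
    rw [MulAut.mul_apply, MulAut.mul_apply] at e
    rw [e]; simp
  obtain ⟨a, ha, haM⟩ := SetLike.not_le_iff_exists.1 h.ne
  have t1 : A.t ⟨g, hg.2⟩ (A.t ⟨a, ha⟩ (A.π z)) ≠ A.t ⟨a, ha⟩ (A.π z) := fun e =>
    haM (h.kl_fix A pE hg hg' hτ ha e)
  set c : 𝐍(E) := ⟨b⁻¹ * a, mul_mem (inv_mem hb.2) ha⟩ with hc
  have hρ := hτ.conj (A.t c)
  set ρ := A.t c * A.t ⟨g, hg.2⟩ * (A.t c)⁻¹ with hρd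
  have t0 : ρ (A.π z) ≠ A.π z := fun e => by
    have h1 := P1 c 1 (by rw [map_one]; exact e)
    have h2 : (b⁻¹ * a)⁻¹ * 1 ∈ M := h1
    refine haM ?_
    simpa using mul_mem (h.sM hb) (inv_mem h2)
  obtain ⟨m, hm⟩ := H93.exists_zpow_eq (A.exp _) hρ t0 (inv_mem (hρ.mem (A.t ⟨a, ha⟩ (A.π z))))
  obtain ⟨n, hn⟩ := H93.exists_zpow_eq (A.exp _) hτ t1 (zpow_mem (mem_zpowers _) m)
  have e1 : A.t (⟨g, hg.2⟩ ^ n * ⟨a, ha⟩) (A.π z) = A.t ⟨a, ha⟩ (A.π z) * A.π z ^ m := by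
    rw [map_mul, map_zpow, MulAut.mul_apply, hτ.zpow_apply, hn]
  have e2 : ρ (A.t ⟨a, ha⟩ (A.π z) * A.π z ^ m) = A.t ⟨a, ha⟩ (A.π z) * A.π z ^ m := by
    rw [mul_zpow, inv_zpow, inv_mul_eq_iff_eq_mul] at hm
    rw [map_mul, map_zpow, hm, mul_inv_rev, inv_inv, mul_comm (A.π z ^ m), ← mul_assoc,
      mul_inv_cancel_left]
  have h1 := P1 c (⟨g, hg.2⟩ ^ n * ⟨a, ha⟩) (by rw [e1]; exact e2)
  have h2 : (b⁻¹ * a)⁻¹ * (g ^ n * a) ∈ M := h1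
  have h3 : b * g ^ n ∈ E := by
    by_contra h3
    refine haM (h.p3 _ (mul_mem hb (zpow_mem hg n)) h3 a ha ?_)
    have e : a⁻¹ * (b * g ^ n) * a = (b⁻¹ * a)⁻¹ * (g ^ n * a) := by group
    rwa [e]
  have h4 : b * g ^ (n % 3) ∈ E := by
    have e : b * g ^ (n % 3) = b * g ^ n * ((g ^ 3) ^ (n / 3))⁻¹ := by
      conv_rhs => rw [← Int.emod_add_mul_ediv n 3]
      rw [← zpow_natCast, ← zpow_mul]
      have : (n % 3 + 3 * (n / 3)) / 3 = n / 3 := by omega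
      rw [this]; push_cast; group
    rw [e]; exact mul_mem h3 (inv_mem (zpow_mem g3 _))
  have : n % 3 = 0 ∨ n % 3 = 1 ∨ n % 3 = 2 := by omega
  rcases this with e | e | e <;> rw [e] at h4
  · left; simpa using h4
  · right; left; simpa using h4
  · right; right; rwa [zpow_two, ← mul_assoc] at h4

end H18.TH
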