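import Mathlib
import Cfsg.Agent.Base
import Cfsg.Agent.Lib.TH3.Defs

set_option autoImplicit false

namespace H18.TH

open Subgroup H2 H90 H91 H93.R3 Cfsg Cfsg.FusionSystem
open scoped commutatorElement Pointwise

local notation:max "𝐍(" A ")" => Subgroup.normalizer (SetLike.coe A)
local notation:max "𝐂(" A ")" => Subgroup.centralizer (SetLike.coe A)

universe u

variable {Γ : Type u} [Group Γ] [Finite Γ] {S E M T P Q : Subgroup Γ} {D : Dat Γ}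

theorem ka_le (h : D.Ok) (hF : Sat D.S) (hE : Es D.S D.A) (hM : Emb D.S D.A M) :
    𝐍(D.A) ⊓ 𝐂(D.Y) ≤ M := by
  haveI : Fact (Nat.Prime 3) := ⟨Nat.prime_three⟩
  have nY : 𝐍(D.A) ≤ 𝐍(D.Y) := h.zA ▸ norm_inf le_rfl (norm_cent le_rfl)
  have e1N : D.E₁ ≤ 𝐍(D.A) := h.nA.ge.trans inf_le_right
  have e1M : D.E₁ ≤ M := h.nA.ge.trans hM.sM
  have tN : D.A ⊔ 𝐂(D.A) ≤ 𝐍(D.A) := sup_le le_normalizer (cent_le_norm _)
  have nT : 𝐍(D.A) ≤ 𝐍((D.A ⊔ 𝐂(D.A) : Subgroup Γ)) := norm_sup le_rfl (norm_cent le_rfl)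
  have tM : D.A ⊔ 𝐂(D.A) ≤ M := sup_le (h.aE.trans e1M) (le_sup_right.trans hM.le)
  have nK : 𝐍(D.A) ≤ 𝐍((𝐍(D.A) ⊓ 𝐂(D.Y) : Subgroup Γ)) := norm_inf le_normalizer (norm_cent nY)
  have eT : ∀ x ∈ D.E₁, x ∈ D.A ⊔ 𝐂(D.A) → x ∈ D.A := fun x hx hx' => by
    obtain ⟨a, ha, c, hc, rfl⟩ := (mem_sup_iff (cent_le_norm _)).1 hx'
    exact mul_mem ha (ess_cent hE ⟨h.e1S (mem_of_mul' hx (h.aE ha)), hc⟩)
  obtain ⟨Γ', _, _, θ, hθ⟩ := exists_qt tN nT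
  have tK : kerIn θ ≤ 𝐍(D.A) ⊓ 𝐂(D.Y) := hθ ▸ le_inf tN (sup_le h.aY (cent_anti (h.yU.trans h.uA)))
  have hl : lg 3 (imageAlong θ (𝐍(D.A) ⊓ 𝐂(D.Y))) = 0 := by
    have h1 := lg_im (p := 3) (θ := θ) inf_le_left tK
    have h2 := lg_sup (p := 3) (e1N.trans nK)
    have h3 := lg_sup (p := 3) (e1N.trans nT)
    have h4 := lg_norm h.pS hF hE.2.1
    rw [h.nA] at h4
    have h5 : lg 3 (D.E₁ ⊔ 𝐍(D.A) ⊓ 𝐂(D.Y)) ≤ lg 3 𝐍(D.A) := lg_mono (sup_le e1N inf_le_left)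
    have h6 : lg 3 (D.E₁ ⊔ 𝐂(D.A)) ≤ lg 3 (D.E₁ ⊔ (D.A ⊔ 𝐂(D.A))) :=
      lg_mono (sup_le_sup_left le_sup_right _)
    have h7 : lg 3 (D.E₁ ⊓ (𝐍(D.A) ⊓ 𝐂(D.Y))) ≤ lg 3 (D.E₁ ⊓ (D.A ⊔ 𝐂(D.A))) :=
      lg_mono fun x hx => ⟨hx.1, mem_sup_left (h.cY ⟨h.e1S hx.1, hx.2.2⟩)⟩
    rw [hθ] at h1
    omega
  have hP : IsPGroup 3 (imageAlong θ D.E₁) := pg_im (h.pS.to_le h.e1S)
  have hle : imageAlong θ (𝐍(D.A) ⊓ 𝐂(D.Y)) ≤ imageAlong θ (M ⊓ 𝐍(D.A)) := by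
    refine le_of_forall_centralizer_le (A := imageAlong θ D.E₁)
      (le_centralizer_iff_isMulCommutative.1 ((im_cent e1N e1N).2
        (hθ ▸ h.c11.trans (h.vA.trans le_sup_left)))) (fun hc => ?_)
      (im_norm e1N inf_le_left (e1N.trans nK)) ?_ fun a' ha' h1 k' hk' => ?_
    · obtain ⟨⟨y, hy⟩, hg⟩ := hc.exists_generator
      obtain ⟨x, hx, rfl⟩ := (mem_imageAlong' e1N).1 hy
      have : D.E₁ ≤ D.A ⊔ zpowers x := fun w hw => by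
        obtain ⟨k, hk⟩ := hg ⟨_, ex_mem e1N hw⟩
        have hk' : ex θ x ^ k = ex θ w := congrArg Subtype.val hk
        rw [← ex_zpow (e1N hx)] at hk'
        have := (ex_div (e1N hw) (e1N (zpow_mem hx k))).2 hk'.symm
        rw [hθ] at this
        exact mem_of_div (mem_sup_left (eT _ (mul_mem hw (inv_mem (zpow_mem hx k))) this))
          (mem_sup_right (zpow_mem (mem_zpowers x) k))
      have h1 := lg_mono (p := 3) this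
      have h2 := lg_sup_zpowers_le (e1N hx) (h.vA (h.p1 x hx))
      have := h.l1
      have := h.lA
      omega
    · rw [card_eq hP]
      refine Nat.Coprime.pow_left _ ((Nat.Prime.coprime_iff_not_dvd Nat.prime_three).2 fun hd => ?_)
      rcases padicValNat.eq_zero_iff.1 hl with e | e | e
      · omega
      · exact Nat.card_pos.ne' e
      · exact e hd
    · obtain ⟨t, ht, rfl⟩ := (mem_imageAlong' e1N).1 ha'
      obtain ⟨k, hk, rfl⟩ := (mem_imageAlong' inf_le_left).1 hk'.1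
      have c := mem_centralizer_singleton_iff.1 hk'.2
      have tA : t ∉ D.A := fun e => h1 ((ex_eq_one (e1N ht)).2 (hθ ▸ mem_sup_left e))
      refine ex_mem inf_le_right ⟨hM.p3 t (h.nA.ge ht) tA k hk.1 ?_, hk.1⟩
      refine mem_of_div (tM (hθ ▸ (ex_div (mul_mem (mul_mem (inv_mem hk.1) (e1N ht)) hk.1)
        (e1N ht)).2 ?_)) (e1M ht)
      rw [ex_mul θ (mul_mem (inv_mem hk.1) (e1N ht)) hk.1, ex_mul θ (inv_mem hk.1) (e1N ht),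
        ex_inv θ hk.1, mul_assoc, ← c, inv_mul_cancel_left]
  exact ((im_le_iff inf_le_left inf_le_right (hθ ▸ le_inf tM tN)).1 hle).trans inf_le_left

theorem not_es_A (h : D.Ok) (hF : Sat D.S) : ¬ Es D.S D.A := by
  haveI : Fact (Nat.Prime 3) := ⟨Nat.prime_three⟩
  intro hE
  obtain ⟨M, hM⟩ := emb_of h.pS hF hE
  have hK := ka_le h hF hE hM
  have nY : 𝐍(D.A) ≤ 𝐍(D.Y) := h.zA ▸ norm_inf le_rfl (norm_cent le_rfl)
  have nZ : 𝐍(D.A) ≤ 𝐍(D.Z₂) := h.dA ▸ norm_comm le_rfl le_rfl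
  have e1N : D.E₁ ≤ 𝐍(D.A) := h.nA.ge.trans inf_le_right
  have e1M : D.E₁ ≤ M := h.nA.ge.trans hM.sM
  have e1C : D.E₁ ≤ 𝐂(D.Z₂) := h.cZ2.ge.trans inf_le_right
  have yS : D.Y ≤ D.S := h.yU.trans (h.uA.trans (h.aE.trans h.e1S))
  have l1 := h.l1
  have lA := h.lA
  have lY := h.lY
  have lZ := h.lZ2
  obtain ⟨t, ht, htA⟩ : ∃ t ∈ D.E₁, t ∉ D.A := SetLike.not_le_iff_exists.1 fun e => by
    have := lg_mono (p := 3) e
    omega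
  obtain ⟨c, hc, hcZ⟩ : ∃ c ∈ D.Y, c ∉ D.Z₂ := SetLike.not_le_iff_exists.1 fun e => by
    have := lg_mono (p := 3) e
    omega
  have yc : D.Y ≤ D.Z₂ ⊔ zpowers c := le_sup_zpowers (h.pS.to_le yS) h.z2Y (by omega) hc hcZ
  have cc : ∀ x ∈ 𝐂(D.Z₂), ⁅x, c⁆ = 1 → x ∈ 𝐂(D.Y) := fun x h1 h2 =>
    cent_anti yc (cent_sup (zpowers_le.2 h1) (zpowers_le.2 (mem_cent_zpowers.2 h2)) (mem_zpowers x))
  refine hM.ne fun a ha => ?_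
  have qC : a * t * a⁻¹ ∈ 𝐂(D.Z₂) := conj_mem (norm_cent nZ ha) (e1C ht)
  have qc : ⁅a * t * a⁻¹, c⁆ ∈ D.Z₂ := by
    have e : ⁅a * t * a⁻¹, c⁆ = a * ⁅t, a⁻¹ * c * a⁆ * a⁻¹ := by
      simp only [commutatorElement_def]; group
    rw [e]
    exact conj_mem (nZ ha) (comm_mem h.e1Y ht (conj_mem' (nY ha) hc))
  obtain ⟨x, hx, e⟩ := exists_comm_of_lg (a := c) (h.pS.to_le h.e1S) (h.pS.to_le (h.z2Y.trans yS))
    bot_le (norm_bot _) (fun x hx => comm_mem h.e1Y hx hc) (by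
      have : lg 3 (D.E₁ ⊓ cz c ⊥) ≤ lg 3 D.A := lg_mono fun x hx =>
        h.cY ⟨h.e1S hx.1, cc x (e1C hx.1) (mem_bot.1 (mem_cz.1 hx.2).2)⟩
      omega) (inv_mem qc)
  have e' := mul_inv_eq_one.1 (mem_bot.1 e)
  have k1 : x⁻¹ * (a * t * a⁻¹) ∈ M := by
    have qN : a * t * a⁻¹ ∈ 𝐍(D.A) := conj_mem (le_normalizer ha) (e1N ht)
    refine hK ⟨𝐍(D.A).mul_mem (𝐍(D.A).inv_mem (e1N hx)) qN,
      cc _ (𝐂(D.Z₂).mul_mem (𝐂(D.Z₂).inv_mem (e1C hx)) qC) ?_⟩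
    have e2 : ⁅x⁻¹ * (a * t * a⁻¹), c⁆ = x⁻¹ * (⁅a * t * a⁻¹, c⁆ * ⁅x, c⁆⁻¹) * x := by
      simp only [commutatorElement_def]; group
    rw [e2, ← e', mul_inv_cancel, mul_one, inv_mul_cancel]
  have k2 : a⁻¹ ∈ M := hM.p3 t (h.nA.ge ht) htA a⁻¹ (inv_mem ha) (by
    rw [inv_inv]; exact mem_of_mul' k1 (inv_mem (e1M hx)))
  simpa using inv_mem k2

end H18.TH
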