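import Mathlib
import Cfsg.Agent.Base
import Cfsg.Agent.Lib.TH3.Defs
import Cfsg.Agent.Lib.TH3.Eng

/-! The subgroups of the model given by lists of codes, and tests for intersections. -/

set_option autoImplicit false

namespace H18.TH

open Subgroup H54 H2 H93.R3
open scoped commutatorElement Pointwise

local notation:max "𝐍(" A ")" => Subgroup.normalizer (SetLike.coe A)
local notation:max "𝐂(" A ")" => Subgroup.centralizer (SetLike.coe A)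

universe u

def LS : List ℕ := [19683, 6561, 2187, 729, 243, 81, 27, 9, 3, 1]
def LE1 : List ℕ := [19683, 2187, 729, 243, 81, 27, 9, 3, 1]
def LE2 : List ℕ := [6561, 2187, 729, 243, 81, 27, 9, 3, 1]
def LZ6 : List ℕ := [2187, 729, 243, 81, 27, 9, 3, 1]
def LD7 : List ℕ := [2916, 243, 81, 27, 9, 3, 1]
def LZ5 : List ℕ := [243, 81, 27, 9, 3, 1]
def LF2 : List ℕ := [243, 27, 9, 3, 1]
def LV : List ℕ := [81, 27, 9, 3, 1]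
def LZ4 : List ℕ := [27, 9, 3, 1]
def LZ3 : List ℕ := [9, 3, 1]
def LZ2 : List ℕ := [3, 1]
def LZ1 : List ℕ := [1]
def LX : List ℕ := [3159, 81, 27, 9, 3, 1]
def LA : List ℕ := [19926, 4131, 81, 27, 9, 3, 1]
def LU : List ℕ := [19926, 4131, 108, 3, 1]
def LY : List ℕ := [108, 3, 1]

noncomputable def nb (a : Bool) : Bool := Bool.rec true false a

theorem nb_eq (a : Bool) : nb a = true ↔ ¬ a = true := by cases a <;> simp [nb]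

/-- `H ≤ ⟨A ++ B⟩` polycyclic, every nontrivial product of elements of `A` passes the test `f` -/
noncomputable def cvB (f : ℕ → Bool) (H A B : List ℕ) : Bool :=
  band (leB (em H) (em A ++ em B)) (band (pcb (em A ++ em B))
    (band (allE (fun t => bor (Nat.beq t 0) (f t)) (em A) 0) (leB (em B) (em H))))

/-- the check for `H ⊓ C(L) = B` -/
noncomputable def ceQ (H A B L : List ℕ) : Bool :=
  band (cvB (fun t => anyL (fun y => nb (co t y)) (em L)) H A B) (ceB (em B) (em L))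

/-- the check for `H ⊓ rc L K = B` -/
noncomputable def rcQ (H A B L K : List ℕ) : Bool :=
  band (cvB (fun t => anyL (fun y => (tb (em K)).nm (len (em K)) (cm t y)) (em L)) H A B)
    (band (lgB (em K)) (cmB (em B) (em L) (em K)))

/-- the check for `H ⊓ N(L) = B` -/
noncomputable def nmQ (H A B L : List ℕ) : Bool :=
  band (cvB (fun t => anyL (fun y => (tb (em L)).nm (len (em L)) (cg t y)) (em L)) H A B)
    (band (lgB (em L)) (nmB (em B) (em L)))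

/-- the check for `H ⊓ L = B` -/
noncomputable def meQ (H A B L : List ℕ) : Bool :=
  band (cvB (fun t => (tb (em L)).nm (len (em L)) t) H A B) (band (lgB (em L)) (leB (em B) (em L)))

noncomputable def cms (P : List (ℕ × ℕ)) : List ℕ :=
  List.rec (motive := fun _ => List ℕ) [] (fun p _ ih => cm (enc p.1) (enc p.2) :: ih) P

/-- the check for `⁅A, B⁆ ⊔ K = C` -/
noncomputable def cmQ (A B K C : List ℕ) (P : List (ℕ × ℕ)) : Bool :=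
  band (cmB (em A) (em B) (em C)) (band (leB (em K) (em C)) (band (leB (em C) (cms P ++ em K))
    (allL (fun p => band ((tb (em A)).mem (enc p.1)) ((tb (em B)).mem (enc p.2))) P)))

variable {Γ : Type u} [Group Γ] {S P : Subgroup Γ} {el : ℕ → Γ}

/-- the group generated by the elements with the given numbers -/
noncomputable abbrev G (el : ℕ → Γ) (L : List ℕ) : Subgroup Γ := gp el (em L)

noncomputable def dat (S : Subgroup Γ) (el : ℕ → Γ) : Dat Γ :=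
  ⟨S, G el LE1, G el LE2, G el LZ1, G el LZ2, G el LZ3, G el LZ4, G el LV, G el LX, G el LA, G el LU,
    G el LY, el (enc 1), el (enc 3)⟩

theorem av_cms : ∀ Q : List (ℕ × ℕ), AV (cms Q)
  | [] => fun _ h => absurd h List.not_mem_nil
  | p :: L => fun y hy => by
    rcases List.mem_cons.1 (show y ∈ cm (enc p.1) (enc p.2) :: cms L from hy) with rfl | h
    exacts [(val_enc _).cm (val_enc _), av_cms L y h]

theorem G_nil : G el [] = ⊥ := gp_nil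
theorem G_one (x : ℕ) : G el [x] = zpowers (el (enc x)) := gp_one _
theorem G_cons (x : ℕ) (L : List ℕ) : G el (x :: L) = G el L ⊔ zpowers (el (enc x)) := gp_cons _ _

namespace Md
variable [Finite Γ] (m : Md S el) {H A B L K C : List ℕ}
include m

omit [Finite Γ] in
theorem cms_le {Q : List (ℕ × ℕ)} (h : ∀ p ∈ Q, el (enc p.1) ∈ G el A ∧ el (enc p.2) ∈ G el B) :
    gp el (cms Q) ≤ ⁅G el A, G el B⁆ := by
  induction Q with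
  | nil => exact gp_nil.le.trans bot_le
  | cons p Q ih =>
    rw [show cms (p :: Q) = H18.TH.cm (enc p.1) (enc p.2) :: cms Q from rfl, gp_cons,
      m.cm (val_enc _) (val_enc _)]
    exact sup_le (ih fun q hq => h q (List.mem_cons_of_mem _ hq)) (zpowers_le_of_mem
      (commutator_mem_commutator (h p List.mem_cons_self).1 (h p List.mem_cons_self).2))

theorem cmQ {Q : List (ℕ × ℕ)} (e : cmQ A B K C Q = true) : ⁅G el A, G el B⁆ ⊔ G el K = G el C := by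
  simp only [H18.TH.cmQ, band_eq_true, allL_iff] at e
  refine le_antisymm (sup_le (m.cmB (av_em _) (av_em _) (av_em _) e.1) (m.leB (av_em _) (av_em _) e.2.1))
    ((m.leB (av_em _) ((av_cms _).append (av_em _)) e.2.2.1).trans ?_)
  rw [gp_append]
  exact sup_le_sup_right (m.cms_le fun p hp => ⟨m.memB (av_em _) (val_enc _) (e.2.2.2 p hp).1,
    m.memB (av_em _) (val_enc _) (e.2.2.2 p hp).2⟩) _

theorem cmQ0 {Q : List (ℕ × ℕ)} (e : H18.TH.cmQ A B [] C Q = true) : ⁅G el A, G el B⁆ = G el C := by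
  rw [← m.cmQ e, G_nil, sup_bot_eq]

theorem cvB {f : ℕ → Bool} (e : cvB f H A B = true) (hB : G el B ≤ P)
    (hf : ∀ t, Val t → f t = true → el t ∉ P) : G el H ⊓ P = G el B := by
  simp only [H18.TH.cvB, band_eq_true] at e
  have a := (av_em A).append (av_em B)
  refine le_antisymm ((inf_le_inf_right _ (m.leB (av_em _) a e.1)).trans
    (m.inf_le a e.2.1 e.2.2.1 hB fun t v c d => ?_)) (le_inf (m.leB (av_em _) (av_em _) e.2.2.2) hB)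
  rcases (bor_eq_true _ _).1 c with c | c
  · rw [Nat.eq_of_beq_eq_true c, m.one]; exact one_mem _
  · exact absurd d (hf t v c)

theorem ceQ (e : ceQ H A B L = true) : G el H ⊓ 𝐂(G el L) = G el B := by
  simp only [H18.TH.ceQ, band_eq_true] at e
  refine m.cvB e.1 (m.ceB (av_em _) (av_em _) e.2) fun t v c d => ?_
  obtain ⟨y, hy, c⟩ := (anyL_iff _ _).1 c
  exact (nb_eq _).1 c ((m.co v (av_em _ y hy)).2 (comm_eq_one d (mem_gp hy)))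

/-- a property of all elements -/
theorem allG {f : ℕ → Bool} (e : pcb (em L) = true) (e' : allE f (em L) 0 = true) {z : Γ}
    (hz : z ∈ G el L) : ∃ t, Val t ∧ f t = true ∧ z = el t := by
  obtain ⟨t, v, c, k, hk, d⟩ := m.cover (L := []) (by simpa using av_em L) (by simpa using e) val_zero e'
    (by simpa using hz)
  rw [gp_nil, mem_bot] at hk
  exact ⟨t, v, c, by rwa [m.one, one_mul, hk, mul_one] at d⟩

variable [Fact (Nat.Prime 3)] (pS : IsPGroup 3 S)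
include pS

theorem rcQ (e : rcQ H A B L K = true) : G el H ⊓ relCentralizer (G el L) (G el K) = G el B := by
  simp only [H18.TH.rcQ, band_eq_true] at e
  have e2 := e.2.2
  rw [H18.TH.cmB, band_eq_true] at e2
  refine m.cvB e.1 (le_rc (m.nmB (av_em _) (av_em _) e2.1) (m.cmB (av_em _) (av_em _) (av_em _) e.2.2))
    fun t v c d => ?_
  obtain ⟨y, hy, c⟩ := (anyL_iff _ _).1 c
  exact m.nmemB pS (av_em _) e.2.1 (v.cm (av_em _ y hy)) c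
    (m.cm v (av_em _ y hy) ▸ (mem_rc.1 d).2 _ (mem_gp hy))

theorem nmQ (e : nmQ H A B L = true) : G el H ⊓ 𝐍(G el L) = G el B := by
  simp only [H18.TH.nmQ, band_eq_true] at e
  refine m.cvB e.1 (m.nmB (av_em _) (av_em _) e.2.2) fun t v c d => ?_
  obtain ⟨y, hy, c⟩ := (anyL_iff _ _).1 c
  exact m.nmemB pS (av_em _) e.2.1 (v.cg (av_em _ y hy)) c
    (m.cg v (av_em _ y hy) ▸ conj_mem d (mem_gp hy))

theorem meQ (e : meQ H A B L = true) : G el H ⊓ G el L = G el B := by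
  simp only [H18.TH.meQ, band_eq_true] at e
  exact m.cvB e.1 (m.leB (av_em _) (av_em _) e.2.2) fun t v c => m.nmemB pS (av_em _) e.2.1 v c

theorem lgG (e : H18.TH.lgB (em L) = true) : lg 3 (G el L) = (em L).length := m.lgB pS (av_em _) e

theorem lg_S : lg 3 S ≤ 10 := by
  have : Nat.card S ≤ Nat.card (Fin 59049) := Nat.card_le_card_of_surjective
    (fun n : Fin 59049 => (⟨el (enc n), m.mem _⟩ : S)) fun ⟨g, hg⟩ => by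
      obtain ⟨x, v, rfl⟩ := m.sur g hg
      obtain ⟨n, hn, rfl⟩ := v.ex
      exact ⟨⟨n, hn⟩, rfl⟩
  rw [card_eq pS, Nat.card_eq_fintype_card, Fintype.card_fin, show 59049 = 3 ^ 10 by norm_num] at this
  exact (Nat.pow_le_pow_iff_right (by norm_num)).1 this

theorem top : G el LS = S :=
  eq_of_lg pS (m.gp_le_S _) ((m.lg_S pS).trans (m.lgG pS (L := LS) (by decide +kernel)).ge)

end Md

structure Dat.OkA (D : Dat Γ) : Prop where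
  pS : IsPGroup 3 D.S
  lS : lg 3 D.S = 10
  l1 : lg 3 D.E₁ = 9
  l2 : lg 3 D.E₂ = 9
  lZ1 : lg 3 D.Z₁ = 1
  lZ2 : lg 3 D.Z₂ = 2
  lZ3 : lg 3 D.Z₃ = 3
  lZ4 : lg 3 D.Z₄ = 4
  lV : lg 3 D.V = 5
  lX : lg 3 D.X = 6
  lA : lg 3 D.A = 7
  lU : lg 3 D.U = 5
  lY : lg 3 D.Y = 3
  z12 : D.Z₁ ≤ D.Z₂
  z23 : D.Z₂ ≤ D.Z₃
  z34 : D.Z₃ ≤ D.Z₄
  z4V : D.Z₄ ≤ D.V
  vX : D.V ≤ D.X
  xE1 : D.X ≤ D.E₁
  xE2 : D.X ≤ D.E₂
  e1S : D.E₁ ≤ D.S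
  e2S : D.E₂ ≤ D.S
  z2Y : D.Z₂ ≤ D.Y
  yU : D.Y ≤ D.U
  yV : D.Y ≤ D.V
  uA : D.U ≤ D.A
  vA : D.V ≤ D.A
  aE : D.A ≤ D.E₁
  n21 : ¬ D.E₂ ≤ D.E₁
  gz1 : D.Z₁ = zpowers D.z₁
  gz2 : D.Z₂ = zpowers D.z₁ ⊔ zpowers D.z₂
  eaV : EA 3 D.V
  eaU : EA 3 D.U
  cZ1 : D.S ≤ 𝐂(D.Z₁)
  zS : D.S ⊓ 𝐂(D.S) ≤ D.Z₁
  cZ2 : D.S ⊓ 𝐂(D.Z₂) = D.E₁
  sZ2 : ⁅D.S, D.Z₂⁆ = D.Z₁
  sZ3 : ⁅D.S, D.Z₃⁆ ⊔ D.Z₁ = D.Z₂
  r3 : D.Z₃ ⊓ relCentralizer D.S D.Z₁ = D.Z₂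
  e2Z3 : ⁅D.E₂, D.Z₃⁆ ≤ D.Z₁
  rV : D.E₁ ⊓ relCentralizer D.E₁ D.Z₂ ≤ D.V
  rX : D.E₁ ⊓ relCentralizer D.V D.Z₁ = D.X
  c11 : ⁅D.E₁, D.E₁⁆ ≤ D.V
  c1V : ⁅D.E₁, D.V⁆ ≤ D.Z₂
  vph : D.V ≤ ph D.E₁
  nU : D.S ⊓ 𝐍(D.U) = D.A
  aU : ⁅D.A, D.U⁆ ≤ D.Z₂
  aY : D.A ≤ 𝐂(D.Y)
  uV : D.U ⊓ D.V ≤ D.Y
  aUV : D.A ≤ D.U ⊔ D.V
  nA : D.S ⊓ 𝐍(D.A) = D.E₁
  zA : D.A ⊓ 𝐂(D.A) = D.Y
  dA : ⁅D.A, D.A⁆ = D.Z₂
  cY : D.S ⊓ 𝐂(D.Y) ≤ D.A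
  e1Y : ⁅D.E₁, D.Y⁆ ≤ D.Z₂

structure Dat.OkB (D : Dat Γ) : Prop where
  nS1 : 𝐍(D.S) ≤ 𝐍(D.E₁)
  nS2 : 𝐍(D.S) ≤ 𝐍(D.E₂)
  n1Z : 𝐍(D.E₁) ≤ 𝐍(D.Z₂)
  n1V : 𝐍(D.E₁) ≤ 𝐍(D.V)
  n2Z1 : 𝐍(D.E₂) ≤ 𝐍(D.Z₁)
  n2Z3 : 𝐍(D.E₂) ≤ 𝐍(D.Z₃)
  n2X : 𝐍(D.E₂) ≤ 𝐍(D.X)
  n13 : 𝐍(D.E₁) ⊓ 𝐍(D.Z₃) ≤ 𝐍(D.Z₁)
  n14 : 𝐍(D.E₁) ⊓ 𝐍(D.Z₄) ≤ 𝐍(D.Z₁)
  n2V : 𝐍(D.E₂) ⊓ 𝐍(D.V) ≤ 𝐍(D.Z₂)
  n26 : 𝐍(D.E₂) ⊓ 𝐍(D.E₁ ⊓ D.E₂) ≤ 𝐍(D.Z₂)
  ch2 : ∃ X₁ X₂ X₃ : Subgroup Γ, X₃ ≤ X₂ ∧ X₂ ≤ X₁ ∧ X₁ ≤ D.E₂ ∧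
    𝐍(D.E₂) ⊓ 𝐍(D.Z₂) ≤ 𝐍(X₁) ∧ 𝐍(D.E₂) ⊓ 𝐍(D.Z₂) ≤ 𝐍(X₂) ∧ 𝐍(D.E₂) ⊓ 𝐍(D.Z₂) ≤ 𝐍(X₃) ∧
    ⁅D.S, D.E₂⁆ ≤ X₁ ∧ ⁅D.S, X₁⁆ ≤ X₂ ∧ ⁅D.S, X₂⁆ ≤ X₃ ∧ ⁅D.S, X₃⁆ ≤ ph D.E₂

structure Dat.OkC (D : Dat Γ) : Prop where
  uni : ∀ W : Subgroup Γ, D.S ≤ 𝐍(W) → D.Z₂ ≤ W → W ≤ D.V →
    W = D.Z₂ ∨ W = D.Z₃ ∨ W = D.Z₄ ∨ W = D.V
  nclX : ∀ z ∈ D.Z₂, z ∉ D.Z₁ → ∀ W : Subgroup Γ, D.S ≤ 𝐍(W) → D.X ≤ W →
    D.E₁ ⊓ relCentralizer D.V (zpowers z) ≤ W → D.E₁ ≤ W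
  nclA : ∀ W : Subgroup Γ, D.S ≤ 𝐍(W) → D.A ≤ W → D.E₁ ≤ W
  p1 : ∀ x ∈ D.E₁, x ^ 3 ∈ D.V
  pts : ∃ x w : Fin 4 → Γ, (∀ i, w i ∈ D.Z₂ ∧ x i ∈ D.E₁ ∧
    D.E₁ ⊓ relCentralizer D.V (zpowers (w i)) = D.V ⊔ zpowers (x i)) ∧
    D.E₁ ≤ D.V ⊔ closure (Set.range x) ∧ ∀ j, ∃ i, ⁅⁅x i, x j⁆, x i⁆ ≠ 1
  fixU : ∀ t ∈ D.A, t ∉ D.U → ∀ u ∈ D.U, ⁅t, u⁆ = 1 → u ∈ D.Y

theorem Dat.ok_of {D : Dat Γ} (a : D.OkA) (b : D.OkB) (c : D.OkC) : D.Ok :=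
  { a, b, c with }

theorem th3lst_eq : True := trivial

end H18.TH
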