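import Mathlib
import Cfsg.Agent.Base
import Cfsg.Agent.Lib.TH3.Lst

/-! The facts about the model, first part. -/

set_option autoImplicit false

namespace H18.TH

open Subgroup H54 H2 H93.R3
open scoped commutatorElement Pointwise

local notation:max "𝐍(" A ")" => Subgroup.normalizer (SetLike.coe A)
local notation:max "𝐂(" A ")" => Subgroup.centralizer (SetLike.coe A)

universe u

variable {Γ : Type u} [Group Γ] [Finite Γ] {S : Subgroup Γ} {el : ℕ → Γ} [Fact (Nat.Prime 3)]

namespace Md
variable (m : Md S el)
include m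

omit [Finite Γ] [Fact (Nat.Prime 3)] in
theorem leG {A B : List ℕ} (e : H18.TH.leB (em A) (em B) = true) : G el A ≤ G el B :=
  m.leB (av_em _) (av_em _) e

omit [Finite Γ] [Fact (Nat.Prime 3)] in
theorem ceG {A B : List ℕ} (e : H18.TH.ceB (em A) (em B) = true) : G el A ≤ 𝐂(G el B) :=
  m.ceB (av_em _) (av_em _) e

omit [Fact (Nat.Prime 3)] in
theorem nmG {A B : List ℕ} (e : H18.TH.nmB (em A) (em B) = true) : G el A ≤ 𝐍(G el B) :=
  m.nmB (av_em _) (av_em _) e

omit [Fact (Nat.Prime 3)] in
theorem cmG {A B C : List ℕ} (e : H18.TH.cmB (em A) (em B) (em C) = true) :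
    ⁅G el A, G el B⁆ ≤ G el C := m.cmB (av_em _) (av_em _) (av_em _) e

omit [Fact (Nat.Prime 3)] in
theorem eaG {A : List ℕ} (e : H18.TH.ceB (em A) (em A) = true) (e1 : pcb (em A) = true)
    (e2 : allE (fun t => Nat.beq (H18.TH.cu t) 0) (em A) 0 = true) : EA 3 (G el A) :=
  ⟨m.ceG e, fun x hx => by
    obtain ⟨t, v, c, rfl⟩ := m.allG e1 e2 hx
    rw [← m.cu v, Nat.eq_of_beq_eq_true c, m.one]⟩

omit [Fact (Nat.Prime 3)] in
theorem c11 : ⁅G el LE1, G el LE1⁆ = G el LV :=
  m.cmQ0 (Q := [(729, 19683), (243, 19683), (243, 729), (9, 19683), (9, 729)]) (by decide +kernel)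

variable (pS : IsPGroup 3 S)
include pS

theorem zS : S ⊓ 𝐂(S) = G el LZ1 := by
  have := m.ceQ (H := LS) (A := [19683, 6561, 2187, 729, 243]) (B := LV) (L := LV) (by decide +kernel)
  have e := m.ceQ (H := LV) (A := [81, 27, 9, 3]) (B := LZ1) (L := LS) (by decide +kernel)
  rw [m.top pS] at this e
  rw [← e, ← this]
  exact le_antisymm (le_inf (inf_le_inf_left _ (cent_anti (m.gp_le_S _))) inf_le_right)
    (inf_le_inf_right _ inf_le_left)

theorem cZ2 : S ⊓ 𝐂(G el LZ2) = G el LE1 := by
  rw [← m.ceQ (H := LS) (A := [6561]) (B := LE1) (L := LZ2) (by decide +kernel), m.top pS]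

theorem rX : G el LE1 ⊓ relCentralizer (G el LV) (G el LZ1) = G el LX :=
  m.rcQ pS (A := [19683, 729, 243]) (by decide +kernel)

theorem okA : (dat S el).OkA := by
  have t := m.top pS
  have tl : ∀ {X : Subgroup Γ}, G el LS ≤ X → S ≤ X := fun h => t ▸ h
  refine
    { pS := pS
      lS := ?_
      l1 := m.lgG pS (L := LE1) (by decide +kernel)
      l2 := m.lgG pS (L := LE2) (by decide +kernel)
      lZ1 := m.lgG pS (L := LZ1) (by decide +kernel)
      lZ2 := m.lgG pS (L := LZ2) (by decide +kernel)
      lZ3 := m.lgG pS (L := LZ3) (by decide +kernel)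
      lZ4 := m.lgG pS (L := LZ4) (by decide +kernel)
      lV := m.lgG pS (L := LV) (by decide +kernel)
      lX := m.lgG pS (L := LX) (by decide +kernel)
      lA := m.lgG pS (L := LA) (by decide +kernel)
      lU := m.lgG pS (L := LU) (by decide +kernel)
      lY := m.lgG pS (L := LY) (by decide +kernel)
      z12 := m.leG (by decide +kernel)
      z23 := m.leG (by decide +kernel)
      z34 := m.leG (by decide +kernel)
      z4V := m.leG (by decide +kernel)
      vX := m.leG (by decide +kernel)
      xE1 := m.leG (by decide +kernel)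
      xE2 := m.leG (by decide +kernel)
      e1S := m.gp_le_S _
      e2S := m.gp_le_S _
      z2Y := m.leG (by decide +kernel)
      yU := m.leG (by decide +kernel)
      yV := m.leG (by decide +kernel)
      uA := m.leG (by decide +kernel)
      vA := m.leG (by decide +kernel)
      aE := m.leG (by decide +kernel)
      n21 := fun h => m.nmemB pS (av_em LE1) (by decide +kernel) (val_enc 6561) (by decide +kernel)
        (h (mem_gp List.mem_cons_self))
      gz1 := G_one 1
      gz2 := ?_
      eaV := m.eaG (by decide +kernel) (by decide +kernel) (by decide +kernel)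
      eaU := m.eaG (by decide +kernel) (by decide +kernel) (by decide +kernel)
      cZ1 := tl (m.ceG (by decide +kernel))
      zS := (m.zS pS).le
      cZ2 := m.cZ2 pS
      sZ2 := ?_
      sZ3 := ?_
      r3 := ?_
      e2Z3 := m.cmG (by decide +kernel)
      rV := (m.rcQ pS (A := [19683, 2187, 729, 243]) (by decide +kernel)).le
      rX := m.rX pS
      c11 := m.c11.le
      c1V := m.cmG (by decide +kernel)
      vph := m.c11.ge.trans ((ph_le (pS.to_le (m.gp_le_S _))).1 le_rfl).1
      nU := ?_
      aU := m.cmG (by decide +kernel)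
      aY := m.ceG (by decide +kernel)
      uV := (m.meQ pS (A := [19926, 4131]) (by decide +kernel)).le
      aUV := (m.leG (B := LU ++ LV) (by decide +kernel)).trans (gp_append (em LU) (em LV)).le
      nA := ?_
      zA := m.ceQ (A := [19926, 4131, 27, 9]) (by decide +kernel)
      dA := m.cmQ0 (Q := [(9, 19926), (9, 4131)]) (by decide +kernel)
      cY := ?_
      e1Y := m.cmG (by decide +kernel) }
  · exact t ▸ m.lgG pS (L := LS) (by decide +kernel)
  · exact (G_cons 3 [1]).trans (by rw [G_one]; rfl)
  · have := m.cmQ0 (A := LS) (B := LZ2) (C := LZ1) (Q := [(6561, 3)]) (by decide +kernel)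
    rwa [t] at this
  · have := m.cmQ (A := LS) (B := LZ3) (K := LZ1) (C := LZ2) (Q := [(19683, 9)]) (by decide +kernel)
    rwa [t] at this
  · have := m.rcQ pS (H := LZ3) (A := [9]) (B := LZ2) (L := LS) (K := LZ1) (by decide +kernel)
    rwa [t] at this
  · have := m.nmQ pS (H := LS) (A := [6561, 729, 243]) (B := LA) (L := LU) (by decide +kernel)
    rwa [t] at this
  · have := m.nmQ pS (H := LS) (A := [6561]) (B := LE1) (L := LA) (by decide +kernel)
    rwa [t] at this
  · have := m.ceQ (H := LS) (A := [6561, 729, 243]) (B := LA) (L := LY) (by decide +kernel)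
    rw [t] at this
    exact this.le

end Md

theorem th3oka_eq : True := trivial

end H18.TH
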