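import Mathlib
import Cfsg.Agent.Base
import Cfsg.Agent.Lib.TH3.OkA

/-! The facts about the model, second part. -/

set_option autoImplicit false

namespace H18.TH

open Subgroup H54 H2 H93.R3
open scoped commutatorElement Pointwise

local notation:max "𝐍(" A ")" => Subgroup.normalizer (SetLike.coe A)
local notation:max "𝐂(" A ")" => Subgroup.centralizer (SetLike.coe A)

universe u

variable {Γ : Type u} [Group Γ] [Finite Γ] {S : Subgroup Γ} {el : ℕ → Γ} [Fact (Nat.Prime 3)]

namespace Md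
variable (m : Md S el) (pS : IsPGroup 3 S)
include m pS

theorem okB : (dat S el).OkB := by
  have t := m.top pS
  have s2 := m.rcQ pS (H := LS) (A := [19683, 6561, 2187, 729, 243, 81, 27, 9]) (B := LZ2) (L := LS)
    (K := LZ1) (by decide +kernel)
  have s3 := m.rcQ pS (H := LS) (A := [19683, 6561, 2187, 729, 243, 81, 27]) (B := LZ3) (L := LS)
    (K := LZ2) (by decide +kernel)
  have s4 := m.rcQ pS (H := LS) (A := [19683]) (B := LE2) (L := LZ3) (K := LZ1) (by decide +kernel)
  rw [t] at s2 s3 s4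
  have a1 : 𝐍(S) ≤ 𝐍(G el LZ1) := m.zS pS ▸ norm_inf le_rfl (norm_cent le_rfl)
  have a2 : 𝐍(S) ≤ 𝐍(G el LZ2) := s2 ▸ norm_inf le_rfl (norm_rc le_rfl a1)
  have a3 : 𝐍(S) ≤ 𝐍(G el LZ3) := s3 ▸ norm_inf le_rfl (norm_rc le_rfl a2)
  have b1 := m.ceQ (H := LE1) (A := [19683, 2187, 729, 243, 81, 27, 9]) (B := LZ2) (L := LE1)
    (by decide +kernel)
  have b2 := m.ceQ (H := LE2) (A := [6561, 2187, 729, 243, 81, 27, 9, 3]) (B := LZ1) (L := LE2)
    (by decide +kernel)
  have b3 := m.rcQ pS (H := LE2) (A := [6561, 2187, 729, 243, 81, 27]) (B := LZ3) (L := LE2)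
    (K := LZ1) (by decide +kernel)
  have b4 := m.ceQ (H := LE2) (A := [6561, 729]) (B := LD7) (L := LZ3) (by decide +kernel)
  have b5 := m.cmQ0 (A := LD7) (B := LE2) (C := LZ4) (Q := [(81, 6561), (27, 6561), (27, 729), (3, 6561)])
    (by decide +kernel)
  have b6 := m.ceQ (H := LE2) (A := [6561, 729, 243]) (B := LX) (L := LZ4) (by decide +kernel)
  have b7 := m.ceQ (H := LE1) (A := [19683, 729]) (B := LD7) (L := LZ3) (by decide +kernel)
  have b8 : mho 3 (G el LD7) = G el LZ1 := by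
    refine le_antisymm (mho_le.2 fun x hx => ?_) ?_
    · obtain ⟨t, v, c, rfl⟩ := m.allG (f := fun t => (H18.TH.tb (em LZ1)).mem (H18.TH.cu t))
        (by decide +kernel) (by decide +kernel) hx
      exact m.cu v ▸ m.memB (av_em _) v.cu c
    · refine (G_one 1).le.trans (zpowers_le_of_mem ?_)
      rw [show enc 1 = H18.TH.cu (enc 243) by decide +kernel, m.cu (val_enc _)]
      exact pow_mem_mho (mem_gp (List.mem_cons_of_mem _ List.mem_cons_self))
  have b9 := m.ceQ (H := LE1) (A := [19683, 729, 243]) (B := LX) (L := LZ4) (by decide +kernel)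
  have c1 := m.cmQ0 (A := LV) (B := LX) (C := LZ1) (Q := [(81, 3159)]) (by decide +kernel)
  have c2 := m.cmQ0 (A := LE2) (B := LE2) (C := LF2)
    (Q := [(729, 6561), (81, 6561), (27, 6561), (27, 729), (3, 6561)]) (by decide +kernel)
  have c3 := m.cmQ (A := LV) (B := LF2) (K := LZ1) (C := LZ2) (Q := [(81, 243)]) (by decide +kernel)
  have c4 := m.meQ pS (H := LE1) (A := [19683]) (B := LZ6) (L := LE2) (by decide +kernel)
  have c5 := m.ceQ (H := LZ3) (A := [9]) (B := LZ2) (L := LZ6) (by decide +kernel)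
  have c6 := m.ceQ (H := LE2) (A := [6561]) (B := LZ6) (L := LZ2) (by decide +kernel)
  have c7 := m.rcQ pS (H := LD7) (A := [2916]) (B := LZ5) (L := LF2) (K := LZ2) (by decide +kernel)
  have d1 : 𝐍(G el LE1) ≤ 𝐍(G el LV) := m.c11 ▸ norm_comm le_rfl le_rfl
  have d2 : 𝐍(G el LE2) ≤ 𝐍(G el LZ1) := b2 ▸ norm_inf le_rfl (norm_cent le_rfl)
  have d3 : 𝐍(G el LE2) ≤ 𝐍(G el LZ3) := b3 ▸ norm_inf le_rfl (norm_rc le_rfl d2)
  have d4 : 𝐍(G el LE2) ≤ 𝐍(G el LD7) := b4 ▸ norm_inf le_rfl (norm_cent d3)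
  have d5 : 𝐍(G el LE2) ≤ 𝐍(G el LZ4) := b5 ▸ norm_comm d4 le_rfl
  have d6 : 𝐍(G el LE2) ≤ 𝐍(G el LF2) := c2 ▸ norm_comm le_rfl le_rfl
  have k : ∀ {B C : List ℕ}, H18.TH.cmB (em LS) (em B) (em C) = true → ⁅S, G el B⁆ ≤ G el C :=
    fun e => t ▸ m.cmG e
  refine ⟨?_, ?_, ?_, d1, d2, d3, ?_, ?_, ?_, ?_, ?_, G el LZ6, G el LZ5, G el LF2,
    m.leG (by decide +kernel), m.leG (by decide +kernel), m.leG (by decide +kernel), ?_, ?_,
    inf_le_left.trans d6, k (by decide +kernel), k (by decide +kernel), k (by decide +kernel), ?_⟩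
  · show 𝐍(S) ≤ 𝐍(G el LE1)
    exact m.cZ2 pS ▸ norm_inf le_rfl (norm_cent a2)
  · show 𝐍(S) ≤ 𝐍(G el LE2)
    exact s4 ▸ norm_inf le_rfl (norm_rc a3 a1)
  · show 𝐍(G el LE1) ≤ 𝐍(G el LZ2)
    exact b1 ▸ norm_inf le_rfl (norm_cent le_rfl)
  · show 𝐍(G el LE2) ≤ 𝐍(G el LX)
    exact b6 ▸ norm_inf le_rfl (norm_cent d5)
  · show 𝐍(G el LE1) ⊓ 𝐍(G el LZ3) ≤ 𝐍(G el LZ1)
    rw [← b8, ← b7]
    exact norm_mho (norm_inf inf_le_left (norm_cent inf_le_right))
  · show 𝐍(G el LE1) ⊓ 𝐍(G el LZ4) ≤ 𝐍(G el LZ1)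
    rw [← c1, ← b9]
    exact norm_comm (inf_le_left.trans d1) (norm_inf inf_le_left (norm_cent inf_le_right))
  · show 𝐍(G el LE2) ⊓ 𝐍(G el LV) ≤ 𝐍(G el LZ2)
    rw [← c3]
    exact norm_sup (norm_comm inf_le_right (inf_le_left.trans d6)) (inf_le_left.trans d2)
  · show 𝐍(G el LE2) ⊓ 𝐍(G el LE1 ⊓ G el LE2) ≤ 𝐍(G el LZ2)
    rw [c4, ← c5]
    exact norm_inf (inf_le_left.trans d3) (norm_cent inf_le_right)
  · show 𝐍(G el LE2) ⊓ 𝐍(G el LZ2) ≤ 𝐍(G el LZ6)
    rw [← c6]
    exact norm_inf inf_le_left (norm_cent inf_le_right)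
  · show 𝐍(G el LE2) ⊓ 𝐍(G el LZ2) ≤ 𝐍(G el LZ5)
    rw [← c7]
    exact norm_inf (inf_le_left.trans d4) (norm_rc (inf_le_left.trans d6) inf_le_right)
  · exact (k (C := LF2) (by decide +kernel)).trans
      (c2.ge.trans ((ph_le (pS.to_le (m.gp_le_S _))).1 le_rfl).1)

omit [Fact (Nat.Prime 3)] pS in
/-- going down one step in `V` -/
theorem step {W : Subgroup Γ} (hW : S ≤ 𝐍(W)) {A B : List ℕ} (g : ℕ) {x : Γ} (hx : x ∈ W)
    (hA : x ∈ G el A) (hB : x ∉ G el B) {f : ℕ → Bool} (e : pcb (em A) = true)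
    (e' : allE (fun t => bor ((H18.TH.tb (em B)).mem t) (f (H18.TH.cm (enc g) t))) (em A) 0 = true) :
    ∃ t, Val t ∧ f t = true ∧ el t ∈ W := by
  obtain ⟨t, v, c, rfl⟩ := m.allG e e' hA
  rcases (bor_eq_true _ _).1 c with c | c
  · exact absurd (m.memB (av_em _) v c) hB
  · exact ⟨_, (val_enc g).cm v, c, m.cm (val_enc g) v ▸ comm_mem_r (hW (m.mem _)) hx⟩

theorem okC : (dat S el).OkC := by
  have o := m.okA pS
  have pV : IsPGroup 3 (G el LV) := pS.to_le (m.gp_le_S _)
  have ad : ∀ {W : Subgroup Γ} {L : List ℕ}, AV L → (∀ x ∈ L, el x ∈ W) →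
      H18.TH.leB (em LE1) L = true → G el LE1 ≤ W :=
    fun a b c => (m.leB (av_em _) a c).trans (gp_le.2 b)
  have cgW : ∀ {W : Subgroup Γ} {x : ℕ}, S ≤ 𝐍(W) → Val x → el x ∈ W →
      el (H18.TH.cg (enc 6561) x) ∈ W :=
    fun a v b => m.cg (val_enc _) v ▸ conj_mem (a (m.mem _)) b
  have r1 := m.rcQ pS (H := LE1) (A := [2187, 729, 243]) (B := 19683 :: LV) (L := LV) (K := [3])
    (by decide +kernel)
  have r2 := m.rcQ pS (H := LE1) (A := [2187, 729, 243]) (B := 20412 :: LV) (L := LV) (K := [4])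
    (by decide +kernel)
  have r3 := m.rcQ pS (H := LE1) (A := [2187, 729, 243]) (B := 21384 :: LV) (L := LV) (K := [5])
    (by decide +kernel)
  refine ⟨fun W hW h2 hV => ?_, fun z hz hz' W hW hX hz2 => ?_, fun W hW hA => ?_, fun x hx => ?_, ?_,
    fun t ht ht' u hu e => ?_⟩
  · have u3 : ∀ x ∈ W, x ∈ G el LZ3 → x ∉ G el LZ2 → G el LZ3 ≤ W := fun x a b c =>
      le_of_mem (p := 3) (pV.to_le (o.z34.trans o.z4V)) o.z23 (o.lZ3.trans (congrArg (· + 1) o.lZ2).symm).le
        b c h2 a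
    have u4 : ∀ x ∈ W, x ∈ G el LZ4 → x ∉ G el LZ3 → G el LZ4 ≤ W := fun x a b c => by
      obtain ⟨t, v, f, w⟩ := m.step hW 6561 a b c (f := fun y => band ((H18.TH.tb (em LZ3)).mem y)
        ((H18.TH.tb (em LZ2)).nm (len (em LZ2)) y)) (by decide +kernel) (by decide +kernel)
      rw [band_eq_true] at f
      exact le_of_mem (p := 3) (pV.to_le o.z4V) o.z34 (o.lZ4.trans (congrArg (· + 1) o.lZ3).symm).le b c
        (u3 _ w (m.memB (av_em _) v f.1) (m.nmemB pS (av_em _) (by decide +kernel) v f.2)) a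
    have u5 : ∀ x ∈ W, x ∈ G el LV → x ∉ G el LZ4 → G el LV ≤ W := fun x a b c => by
      obtain ⟨t, v, f, w⟩ := m.step hW 6561 a b c (f := fun y => band ((H18.TH.tb (em LZ4)).mem y)
        ((H18.TH.tb (em LZ3)).nm (len (em LZ3)) y)) (by decide +kernel) (by decide +kernel)
      rw [band_eq_true] at f
      exact le_of_mem (p := 3) pV o.z4V (o.lV.trans (congrArg (· + 1) o.lZ4).symm).le b c
        (u4 _ w (m.memB (av_em _) v f.1) (m.nmemB pS (av_em _) (by decide +kernel) v f.2)) a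
    by_cases h4 : W ≤ G el LZ4
    · by_cases h3 : W ≤ G el LZ3
      · by_cases h2' : W ≤ G el LZ2
        · exact Or.inl (le_antisymm h2' h2)
        · obtain ⟨x, a, b⟩ := SetLike.not_le_iff_exists.1 h2'
          exact Or.inr (Or.inl (le_antisymm h3 (u3 x a (h3 a) b)))
      · obtain ⟨x, a, b⟩ := SetLike.not_le_iff_exists.1 h3
        exact Or.inr (Or.inr (Or.inl (le_antisymm h4 (u4 x a (h4 a) b))))
    · obtain ⟨x, a, b⟩ := SetLike.not_le_iff_exists.1 h4
      exact Or.inr (Or.inr (Or.inr (le_antisymm hV (u5 x a (hV a) b))))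
  · have fin : ∀ y w : ℕ, G el LE1 ⊓ relCentralizer (G el LV) (G el [w]) = G el (y :: LV) →
        H18.TH.leB (em LE1) (H18.TH.cg (enc 6561) (H18.TH.cg (enc 6561) (enc y)) ::
          H18.TH.cg (enc 6561) (enc y) :: enc y :: em LX) = true →
        zpowers z = G el [w] → G el LE1 ≤ W := fun y w a b c => by
      have hy : el (enc y) ∈ W := hz2 (by
        show _ ∈ G el LE1 ⊓ relCentralizer (G el LV) (zpowers z)
        rw [c, a]; exact mem_gp List.mem_cons_self)
      have v := val_enc y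
      have v1 := (val_enc 6561).cg v
      refine ad (fun x hx => ?_) (fun x hx => ?_) b
      · rcases List.mem_cons.1 hx with rfl | hx
        · exact (val_enc _).cg v1
        rcases List.mem_cons.1 hx with rfl | hx
        · exact v1
        exact av_em (y :: LX) x hx
      · rcases List.mem_cons.1 hx with rfl | hx
        · exact cgW hW v1 (cgW hW v hy)
        rcases List.mem_cons.1 hx with rfl | hx
        · exact cgW hW v hy
        rcases List.mem_cons.1 hx with rfl | hx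
        · exact hy
        exact hX (mem_gp hx)
    obtain ⟨t, v, c, rfl⟩ := m.allG (f := fun t => bor ((H18.TH.tb (em LZ1)).mem t)
      (anyL (fun w => band (H18.TH.leB [t] (em [w])) (H18.TH.leB (em [w]) [t])) [3, 4, 5]))
      (by decide +kernel) (by decide +kernel) hz
    rcases (bor_eq_true _ _).1 c with c | c
    · exact absurd (m.memB (av_em _) v c) hz'
    obtain ⟨w, hw, c⟩ := (anyL_iff _ _).1 c
    rw [band_eq_true] at c
    have vt : AV [t] := fun x hx => List.mem_singleton.1 hx ▸ v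
    have e : zpowers (el t) = G el [w] :=
      (gp_one t).symm.trans (le_antisymm (m.leB vt (av_em _) c.1) (m.leB (av_em _) vt c.2))
    simp only [List.mem_cons, List.not_mem_nil, or_false] at hw
    rcases hw with rfl | rfl | rfl
    exacts [fin _ _ r1 (by decide +kernel) e, fin _ _ r2 (by decide +kernel) e,
      fin _ _ r3 (by decide +kernel) e]
  · refine ad (L := H18.TH.cg (enc 6561) (enc 4131) :: H18.TH.cg (enc 6561) (enc 19926) :: em LA)
      (fun x hx => ?_) (fun x hx => ?_) (by decide +kernel)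
    · rcases List.mem_cons.1 hx with rfl | hx
      · exact (val_enc _).cg (val_enc _)
      rcases List.mem_cons.1 hx with rfl | hx
      · exact (val_enc _).cg (val_enc _)
      exact av_em _ x hx
    · rcases List.mem_cons.1 hx with rfl | hx
      · exact cgW hW (val_enc _) (hA (mem_gp (List.mem_cons_of_mem _ List.mem_cons_self)))
      rcases List.mem_cons.1 hx with rfl | hx
      · exact cgW hW (val_enc _) (hA (mem_gp List.mem_cons_self))
      exact hA (mem_gp hx)
  · obtain ⟨t, v, c, k, hk, d⟩ := m.cover (L := em LV) (ys := em [19683, 2187, 729, 243])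
      (f := fun t => (H18.TH.tb (em LV)).mem (H18.TH.cu t)) (av_em LE1) (by decide +kernel) val_zero
      (by decide +kernel) hx
    rw [m.one, one_mul] at d
    have ht : el t ∈ G el LE1 := mem_of_mul (d ▸ hx) (o.xE1 (o.vX hk))
    have h3 : el t ^ 3 ∈ G el LV := m.cu v ▸ m.memB (av_em _) v.cu c
    have n : el t ∈ 𝐍(G el LV) := m.nmG (A := LE1) (by decide +kernel) ht
    have : x ^ 3 = (el t * k * (el t)⁻¹) * (el t * (el t * k * (el t)⁻¹) * (el t)⁻¹) *
        (el t * (el t * (el t * k * (el t)⁻¹) * (el t)⁻¹) * (el t)⁻¹) * el t ^ 3 := by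
      rw [d, pow_three', pow_three']; group
    rw [this]
    exact mul_mem (mul_mem (mul_mem (conj_mem n hk) (conj_mem n (conj_mem n hk)))
      (conj_mem n (conj_mem n (conj_mem n hk)))) h3
  · have c : ∀ a b : ℕ, Nat.beq (H18.TH.cm (H18.TH.cm (enc a) (enc b)) (enc a)) 0 = false →
        ⁅⁅el (enc a), el (enc b)⁆, el (enc a)⁆ ≠ 1 := fun a b e h => by
      have v := (val_enc a).cm (val_enc b)
      rw [← m.cm (val_enc _) (val_enc _), ← m.cm v (val_enc _), m.eq_one (v.cm (val_enc _))] at h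
      rw [h] at e; cases e
    have z : ∀ w : ℕ, (H18.TH.tb (em LZ2)).mem (enc w) = true → el (enc w) ∈ G el LZ2 :=
      fun w => m.memB (av_em _) (val_enc _)
    have y : ∀ w : ℕ, (H18.TH.tb (em LE1)).mem (enc w) = true → el (enc w) ∈ G el LE1 :=
      fun w => m.memB (av_em _) (val_enc _)
    refine ⟨![el (enc 3159), el (enc 19683), el (enc 20412), el (enc 21384)],
      ![el (enc 1), el (enc 3), el (enc 4), el (enc 5)], fun i => ?_, ?_, fun j => ?_⟩
    · fin_cases i
      · exact ⟨z 1 (by decide +kernel), y _ (by decide +kernel),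
          ((congrArg _ (congrArg _ (G_one 1).symm)).trans (m.rX pS)).trans (G_cons _ _)⟩
      · exact ⟨z 3 (by decide +kernel), y _ (by decide +kernel),
          ((congrArg _ (congrArg _ (G_one 3).symm)).trans r1).trans (G_cons _ _)⟩
      · exact ⟨z 4 (by decide +kernel), y _ (by decide +kernel),
          ((congrArg _ (congrArg _ (G_one 4).symm)).trans r2).trans (G_cons _ _)⟩
      · exact ⟨z 5 (by decide +kernel), y _ (by decide +kernel),
          ((congrArg _ (congrArg _ (G_one 5).symm)).trans r3).trans (G_cons _ _)⟩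
    · refine ad (av_em ([21384, 20412, 19683, 3159] ++ LV)) (fun x hx => ?_) (by decide +kernel)
      rcases List.mem_cons.1 hx with rfl | hx
      · exact mem_sup_right (subset_closure ⟨3, rfl⟩)
      rcases List.mem_cons.1 hx with rfl | hx
      · exact mem_sup_right (subset_closure ⟨2, rfl⟩)
      rcases List.mem_cons.1 hx with rfl | hx
      · exact mem_sup_right (subset_closure ⟨1, rfl⟩)
      rcases List.mem_cons.1 hx with rfl | hx
      · exact mem_sup_right (subset_closure ⟨0, rfl⟩)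
      exact mem_sup_left (mem_gp hx)
    · fin_cases j
      exacts [⟨1, c 19683 3159 (by decide +kernel)⟩, ⟨0, c 3159 19683 (by decide +kernel)⟩,
        ⟨0, c 3159 20412 (by decide +kernel)⟩, ⟨0, c 3159 21384 (by decide +kernel)⟩]
  · have hA : t ∈ gp el (em [27, 9] ++ em LU) :=
      m.leB (av_em LA) ((av_em [27, 9]).append (av_em LU)) (by decide +kernel) ht
    obtain ⟨s, v, c, k, hk, d⟩ := m.cover (f := fun s => bor (Nat.beq s 0) (allE (fun u =>
      bor (nb (H18.TH.co s u)) ((H18.TH.tb (em LY)).mem u)) (em LU) 0)) ((av_em [27, 9]).append (av_em LU))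
      (by decide +kernel) val_zero (by decide +kernel) hA
    rw [m.one, one_mul] at d
    rcases (bor_eq_true _ _).1 c with c | c
    · rw [Nat.eq_of_beq_eq_true c, m.one, one_mul] at d
      exact absurd (d ▸ hk) ht'
    obtain ⟨w, v', c, rfl⟩ := m.allG (by decide +kernel) c hu
    rcases (bor_eq_true _ _).1 c with c | c
    · refine absurd ((m.co v v').2 ?_) ((nb_eq _).1 c)
      have := comm_eq_one (o.eaU.comm hk) hu
      rw [commutatorElement_eq_one_iff_mul_comm] at e this ⊢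
      rw [d, mul_assoc, this, ← mul_assoc, ← mul_assoc] at e
      exact mul_right_cancel e
    · exact m.memB (av_em _) v' c

theorem ok : (dat S el).Ok := Dat.ok_of (m.okA pS) (m.okB pS) (m.okC pS)

end Md

omit [Fact (Nat.Prime 3)] in
theorem th3okb_eq : True := trivial

end H18.TH
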