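import Mathlib
import Cfsg.Agent.Base
import Cfsg.Agent.Lib.CGT.Pool
import Cfsg.Agent.Lib.TH3.OkB
import Cfsg.Agent.Lib.TH3.KL
import Cfsg.Agent.Lib.TH3.KA

/-! The checker for the list of the candidates for essential subgroups. -/

set_option autoImplicit false

namespace H18.TH

open Subgroup H54 H2 H93.R3
open scoped commutatorElement Pointwise

local notation:max "𝐍(" A ")" => Subgroup.normalizer (SetLike.coe A)
local notation:max "𝐂(" A ")" => Subgroup.centralizer (SetLike.coe A)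

universe u

noncomputable def ul (n : ℕ) : ℕ → List ℕ :=
  Nat.rec (motive := fun _ => ℕ → List ℕ) (fun _ => []) (fun _ ih w =>
    force (enc (Nat.land w 65535)) fun x => x :: ih (Nat.shiftRight w 16)) n

noncomputable def nt (L : List ℕ) : ℕ → ℕ :=
  List.rec (motive := fun _ => ℕ → ℕ) (fun _ => 0)
    (fun x _ ih i => Nat.rec (motive := fun _ => ℕ) x (fun j _ => ih j) i) L

/-- a straight line program for the Frattini subgroup -/
noncomputable def slp (n : ℕ) : ℕ → List ℕ → Tb → Tb :=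
  Nat.rec (motive := fun _ => ℕ → List ℕ → Tb → Tb) (fun _ _ t => t) (fun _ ih w es t =>
    force (Bool.rec (motive := fun _ => ℕ)
      (cm (nt es (Nat.land w 15)) (nt es (Nat.land (Nat.shiftRight w 4) 15)))
      (cu (nt es (Nat.land w 15))) (Nat.beq (Nat.land w 15) (Nat.land (Nat.shiftRight w 4) 15)))
    fun y => ih (Nat.shiftRight w 8) (y :: es) (t.add y)) n

noncomputable def inss (L : List ℕ) (t : Tb) : Tb :=
  List.rec (motive := fun _ => Tb) t (fun x _ ih => ih.ins x) L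

noncomputable def en (f : Tb → ℕ → Bool) (p : ℕ) (ys : List ℕ) : Tb → ℕ → Bool :=
  List.rec (motive := fun _ => Tb → ℕ → Bool) f (fun x _ ih t i =>
    band (ih (t.ins x) (Nat.mul 3 i)) (force (mu x p) fun y =>
      band (ih (t.ins y) (Nat.succ (Nat.mul 3 i))) (ih (t.ins (mu y p)) (Nat.add (Nat.mul 3 i) 2)))) ys

/-- `f` holds for the tables of all maximal subgroups containing the elements of the table -/
noncomputable def go (f : Tb → ℕ → Bool) (ys : List ℕ) : Tb → Bool :=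
  List.rec (motive := fun _ => Tb → Bool) (fun _ => true)
    (fun p ys' ih t => band (en f p ys' t 1) (ih (t.ins p))) ys

noncomputable def xsW (w : ℕ) : List ℕ := ul (Nat.land (Nat.shiftRight w 4) 15) (Nat.shiftRight w 12)
noncomputable def zsW (w : ℕ) : List ℕ := ul (Nat.land (Nat.shiftRight w 8) 15)
  (Nat.shiftRight w (Nat.add 12 (Nat.mul 16 (Nat.land (Nat.shiftRight w 4) 15))))
noncomputable def gnW (w : ℕ) : List ℕ := xsW w ++ zsW w

noncomputable def leaf (n : ℕ) (gt : ℕ → ℕ) (k ce : ℕ) (t : Tb) (i : ℕ) : Bool :=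
  force (Nat.land (Nat.shiftRight ce (Nat.mul 32 i)) 4294967295) fun d =>
  force (enc (Nat.land d 65535)) fun s => Nat.rec (motive := fun _ => Bool)
    (band (Nat.ble k (Nat.succ t.len)) (band (t.all (co s)) (t.nm (Nat.pred k) s)))
    (fun c _ => band (Nat.ble (Nat.succ c) n) (force (gt c) fun w =>
      band (Nat.beq (Nat.succ (Nat.land w 15)) k) (allL (fun g => t.mem (cg s g)) (gnW w))))
    (Nat.shiftRight d 16)

noncomputable def Tb.lst (t : Tb) : List ℕ :=
  Tb.rec (motive := fun _ => List ℕ) [] (fun _ p _ ih => force (Nat.shiftRight p 64) fun y => y :: ih) t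

noncomputable def kW (wp wn : ℕ → Bool) (k g : ℕ) (gn ds : List ℕ) (tF tR : Tb) : Bool :=
  band (tR.nm k g) (band (allL (fun d => band (tR.mem d) (wp d)) ds)
    (band (allL (fun x => (adds ds tF).mem (cm g x)) gn) (band (pcb tR.lst) (band (leB gn tR.lst)
      (allE (fun t => bor (wn t) (tF.mem (cm g t))) tR.lst 0)))))

noncomputable def kT (k g z b : ℕ) (gn : List ℕ) (tF tR : Tb) : Bool :=
  band (tR.nm k g) (band (tR.mem z) (band (allL (fun x => (tF.add z).mem (cm g x)) gn)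
    (band (allL (fun x => tR.mem (cg b x)) gn) (band (tR.nm k b)
      (band (tR.nm k (mu b g)) (tR.nm k (mu (mu b g) g)))))))

noncomputable def kS (k : ℕ) (gn L : List ℕ) : Bool := band (Nat.ble (len (em L)) k) (leB gn (em L))

noncomputable def kill (k kind : ℕ) (ds ws gn : List ℕ) (tF tR : Tb) (g : ℕ) : Bool :=
  sel (Nat.beq kind 0) (band (tR.nm k g) (allL (fun x => tF.mem (cm g x)) gn))
  (sel (Nat.beq kind 1) (kT k g (nt ds 0) (nt ds 1) gn tF tR)
  (sel (Nat.beq kind 2) (kW (fun d => allL (co d) gn) (fun t => anyL (fun y => nb (co t y)) gn)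
    k g gn ds tF tR)
  (sel (Nat.beq kind 3) (kW (fun d => allL (fun y => allL (co (cm d y)) gn) gn)
    (fun t => anyL (fun y => anyL (fun w => nb (co (cm t y) w)) gn) gn) k g gn ds tF tR)
  (sel (Nat.beq kind 4) (kW (fun d => Nat.beq (cu d) 0) (fun t => nb (Nat.beq (cu t) 0)) k g gn ds tF tR)
  (sel (Nat.beq kind 5) (band (allL tR.mem ws) (kW (fun d => allE (fun y => co (cm y d) d) tR.lst 0)
    (fun t => anyL (fun y => nb (co (cm y t) t)) ws) k g gn ds tF tR))
  (sel (Nat.beq kind 6) (kS k gn LE1) (sel (Nat.beq kind 7) (kS k gn LE2)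
  (sel (Nat.beq kind 8) (kS k gn LA) (sel (Nat.beq kind 9) (kS k gn LU) (Nat.ble 10 k))))))))))

noncomputable def chk3 (n : ℕ) (gt : ℕ → ℕ) (k kd ce : ℕ) (xs zs gn : List ℕ) (tF tN tR : Tb) : Bool :=
  band (Nat.ble k tR.len) (band (allL (fun z => allL (co z) gn) zs)
    (band (force (enc (Nat.land (Nat.shiftRight kd 12) 65535))
      (kill k (Nat.land kd 15) (ul (Nat.land (Nat.shiftRight kd 4) 15) (Nat.shiftRight kd 28))
        (ul (Nat.land (Nat.shiftRight kd 8) 15)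
          (Nat.shiftRight kd (Nat.add 28 (Nat.mul 16 (Nat.land (Nat.shiftRight kd 4) 15))))) gn tF tR))
      (go (leaf n gt k ce) xs tN)))

noncomputable def chk2 (n : ℕ) (gt : ℕ → ℕ) (k kd ce : ℕ) (xs zs gn : List ℕ) (tF : Tb) : Bool :=
  chk3 n gt k kd ce xs zs gn tF (adds zs tF) (inss xs (adds zs tF))

noncomputable def chk (n : ℕ) (gt : ℕ → ℕ) (i : ℕ) (c : ℕ × ℕ × ℕ) : Bool :=
  force (gt i) fun w => force (Nat.land w 15) fun k => force c.2.2 fun ce =>
    chk2 n gt k c.2.1 ce (xsW w) (zsW w) (gnW w)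
      (slp (Nat.land c.1 15) (Nat.shiftRight c.1 4) (gnW w) .nil)

theorem av_ul : ∀ n w : ℕ, AV (ul n w)
  | 0, _ => fun _ h => absurd h List.not_mem_nil
  | n + 1, w => fun y hy => by
    have e : ul (n + 1) w = force (enc (Nat.land w 65535)) fun x => x :: ul n (Nat.shiftRight w 16) := rfl
    rw [e, force_eq] at hy
    rcases List.mem_cons.1 hy with rfl | h
    exacts [val_enc _, av_ul n _ y h]

theorem sel_or {c a b : Bool} (h : sel c a b = true) : a = true ∨ b = true := by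
  cases c
  exacts [Or.inr h, Or.inl h]

theorem nt_mem : ∀ (L : List ℕ) (i : ℕ), nt L i = 0 ∨ nt L i ∈ L
  | [], _ => Or.inl rfl
  | _ :: _, 0 => Or.inr List.mem_cons_self
  | _ :: L, i + 1 => (nt_mem L i).imp_right (List.mem_cons_of_mem _)

theorem AV.nt {L : List ℕ} (h : AV L) (i : ℕ) : Val (nt L i) :=
  (nt_mem L i).elim (fun e => e ▸ val_zero) (h _)

variable {Γ : Type u} [Group Γ] {S E M R H : Subgroup Γ} {el : ℕ → Γ}

theorem Tb.Ok.lst : ∀ {t : Tb} {b : ℕ}, t.Ok el H b → AV t.lst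
  | .nil, _, _ => fun _ h => absurd h List.not_mem_nil
  | .cons D p t, _, ⟨_, y, _, _, a3, a4, _, _, _, a8⟩ => fun x hx => by
    have e : (Tb.cons D p t).lst = force (Nat.shiftRight p 64) fun y => y :: t.lst := rfl
    rw [e, force_eq, a3, (pk_spec a4).1] at hx
    rcases List.mem_cons.1 hx with rfl | h
    exacts [a4, Tb.Ok.lst a8 x h]

theorem Tb.Ok.inss {t : Tb} (h : t.Ok el H 10) : ∀ {L : List ℕ}, AV L → (∀ x ∈ L, el x ∈ H) →
    (inss L t).Ok el H 10
  | [], _, _ => h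
  | _ :: _, a, b => (Tb.Ok.inss h a.tail fun y hy => b y (List.mem_cons_of_mem _ hy)).ins a.head
    (b _ List.mem_cons_self)

variable [Finite Γ] [Fact (Nat.Prime 3)]

theorem exists_max (pR : IsPGroup 3 R) (h : E ≤ R) (h' : ¬ R ≤ E) :
    ∃ M, E ≤ M ∧ M ≤ R ∧ lg 3 M + 1 = lg 3 R := by
  obtain ⟨M, a, -, b, -⟩ := H5.exists_le_normal_index_eq (K := E.subgroupOf R) pR
    fun c => h' (subgroupOf_eq_top.1 c)
  have l : M.map R.subtype ≤ R := map_subtype_le M
  refine ⟨M.map R.subtype, (map_subgroupOf_eq_of_le h).ge.trans (map_mono a), l, ?_⟩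
  rw [← lg_rel l, relIndex, subgroupOf, comap_map_eq_self_of_injective R.subtype_injective, b]
  simp

theorem three' (pR : IsPGroup 3 R) (h : M ≤ R) (e : lg 3 R ≤ lg 3 M + 1) {p x : Γ} (hp : p ∈ R)
    (hp' : p ∉ M) (hx : x ∈ R) : x ∈ M ∨ x * p ∈ M ∨ x * p * p ∈ M := by
  have n := norm_of_lg pR h e hp
  have c := pow_mem_of_lg pR h e hp
  rcases Md.three c n (le_sup_zpowers pR h e hp hp' hx) with a | ⟨k, a, rfl⟩ | ⟨k, a, rfl⟩
  · exact Or.inl a
  · refine Or.inr (Or.inr ?_)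
    rw [show p * k * p * p = p * k * p⁻¹ * p ^ 3 by rw [pow_three']; group]
    exact mul_mem (conj_mem n a) c
  · refine Or.inr (Or.inl ?_)
    rw [show p * p * k * p = p * (p * k * p⁻¹) * p⁻¹ * p ^ 3 by rw [pow_three']; group]
    exact mul_mem (conj_mem n (conj_mem n a)) c

/-- the conclusion for an essential subgroup -/
def Cc (D : Dat Γ) (E : Subgroup Γ) : Prop := E = D.E₁ ∨ E = D.E₂ ∨ ∃ s ∈ D.S, E = cn s D.U

omit [Finite Γ] [Fact (Nat.Prime 3)] in
theorem Cc.conj {D : Dat Γ} (o : D.Ok) {s : Γ} (hs : s ∈ D.S) (h : Cc D (cn s⁻¹ E)) : Cc D E := by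
  rw [← cn_cn_inv (g := s) (X := E)]
  rcases h with h | h | ⟨r, hr, h⟩ <;> rw [h]
  · exact Or.inl (cn_eq (o.nS1 (le_normalizer hs)))
  · exact Or.inr (Or.inl (cn_eq (o.nS2 (le_normalizer hs))))
  · exact Or.inr (Or.inr ⟨s * r, mul_mem hs hr, cn_cn _ _⟩)

namespace Md
variable (m : Md S el) (pS : IsPGroup 3 S)
include m

theorem slp_ok (pR : IsPGroup 3 R) : ∀ (n w : ℕ) {es : List ℕ} {t : Tb}, AV es → (∀ x ∈ es, el x ∈ R) →
    t.Ok el (ph R) 10 → (slp n w es t).Ok el (ph R) 10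
  | 0, _, _, _, _, _, h => h
  | n + 1, w, es, t, a, b, h => by
    have e : slp (n + 1) w es t = force (Bool.rec (motive := fun _ => ℕ)
      (H18.TH.cm (nt es (Nat.land w 15)) (nt es (Nat.land (Nat.shiftRight w 4) 15)))
      (H18.TH.cu (nt es (Nat.land w 15))) (Nat.beq (Nat.land w 15) (Nat.land (Nat.shiftRight w 4) 15)))
      fun y => slp n (Nat.shiftRight w 8) (y :: es) (t.add y) := rfl
    rw [e, force_eq]
    have k : ∀ i, el (nt es i) ∈ R := fun i =>
      (nt_mem es i).elim (fun e => by rw [e, m.one]; exact one_mem _) (b _)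
    have f := (ph_le (Y := ph R) pR).1 le_rfl
    have s : ∀ y, Val y → el y ∈ ph R →
        (slp n (Nat.shiftRight w 8) (y :: es) (t.add y)).Ok el (ph R) 10 := fun y v c =>
      slp_ok pR n _ (fun x hx => (List.mem_cons.1 hx).elim (fun e => e ▸ v) (a x))
        (fun x hx => (List.mem_cons.1 hx).elim (fun e => e ▸ ph_le_self c) (b x)) (m.add h v c)
    cases Nat.beq (Nat.land w 15) (Nat.land (Nat.shiftRight w 4) 15)
    · exact s _ ((a.nt _).cm (a.nt _))
        (m.cm (a.nt _) (a.nt _) ▸ f.1 (commutator_mem_commutator (k _) (k _)))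
    · exact s _ (a.nt _).cu (m.cu (a.nt _) ▸ f.2 _ (k _))

section
variable (pR : IsPGroup 3 R) (h : M ≤ R) (e : lg 3 R ≤ lg 3 M + 1) {f : Tb → ℕ → Bool}
include pR h e

theorem en_ok {p : ℕ} (v : Val p) (hp : el p ∈ R) (hp' : el p ∉ M) : ∀ {ys : List ℕ} {t : Tb} {i : ℕ},
    AV ys → (∀ x ∈ ys, el x ∈ R) → t.Ok el M 10 → en f p ys t i = true →
    ∃ t' i', Tb.Ok el M t' 10 ∧ f t' i' = true
  | [], t, i, _, _, o, c => ⟨t, i, o, c⟩
  | x :: ys, t, i, a, b, o, c => by
    have c' : band (en f p ys (t.ins x) (Nat.mul 3 i)) (force (mu x p) fun y =>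
      band (en f p ys (t.ins y) (Nat.succ (Nat.mul 3 i)))
        (en f p ys (t.ins (mu y p)) (Nat.add (Nat.mul 3 i) 2))) = true := c
    simp only [band_eq_true, force_eq] at c'
    have b' := fun y hy => b y (List.mem_cons_of_mem _ hy)
    have vx := a.head
    rcases three' pR h e hp hp' (b x List.mem_cons_self) with d | d | d
    · exact en_ok v hp hp' a.tail b' (o.ins vx d) c'.1
    · exact en_ok v hp hp' a.tail b' (o.ins (vx.mu v) (m.mul vx v ▸ d)) c'.2.1
    · exact en_ok v hp hp' a.tail b' (o.ins ((vx.mu v).mu v)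
        (by rw [m.mul (vx.mu v) v, m.mul vx v]; exact d)) c'.2.2

theorem go_ok : ∀ {ys : List ℕ} {t : Tb}, AV ys → (∀ x ∈ ys, el x ∈ R) → t.Ok el M 10 →
    go f ys t = true → (∀ x ∈ ys, el x ∈ M) ∨ ∃ t' i', Tb.Ok el M t' 10 ∧ f t' i' = true
  | [], _, _, _, _, _ => Or.inl fun _ h => absurd h List.not_mem_nil
  | p :: ys, t, a, b, o, c => by
    have c' : band (en f p ys t 1) (go f ys (t.ins p)) = true := c
    rw [band_eq_true] at c'
    have b' := fun y hy => b y (List.mem_cons_of_mem _ hy)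
    by_cases d : el p ∈ M
    · exact (go_ok a.tail b' (o.ins a.head d) c'.2).imp_left
        fun k x hx => (List.mem_cons.1 hx).elim (fun e => e ▸ d) (k x)
    · exact Or.inr (m.en_ok pR h e a.head (b p List.mem_cons_self) d a.tail b' o c'.1)

end

include pS

section kills
variable {gn : List ℕ} (a : AV gn) {tF tR : Tb} (oF : tF.Ok el (ph (gp el gn)) 10)
  (oR : tR.Ok el (gp el gn) 10) {k g : ℕ} (hk : lg 3 (gp el gn) ≤ k) (v : Val g)
include a v

omit oF oR hk in
theorem c0_of (h1 : ph (gp el gn) ≤ H) (h2 : H ≤ gp el gn) {t : Tb} (o : t.Ok el H 10)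
    (c : allL (fun x => t.mem (H18.TH.cm g x)) gn = true) :
    el g ∈ S ⊓ 𝐍(gp el gn) ∧ ∀ x ∈ gp el gn, ⁅el g, x⁆ ∈ H := by
  have d := comm_gp ((eq_ph (pS.to_le (m.gp_le_S gn))).norm h1 h2) fun x hx =>
    m.cm v (a x hx) ▸ m.mem_of o (v.cm (a x hx)) ((allL_iff _ _).1 c x hx)
  refine ⟨⟨m.mem g, mem_norm fun x hx => ?_⟩, d⟩
  rw [show el g * x * (el g)⁻¹ = ⁅el g, x⁆ * x by rw [commutatorElement_def]; group]
  exact mul_mem (h2 (d x hx)) hx

variable (hE : Emb S (gp el gn) M)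
include oF oR hk hE

theorem kW_ok {wp wn : ℕ → Bool} {ds : List ℕ} (ad : AV ds) (W : Γ → Prop)
    (hW : ∀ a ∈ 𝐍(gp el gn), ∀ x ∈ gp el gn, W x → W (a * x * a⁻¹))
    (hp : pcb tR.lst = true → gp el gn ≤ gp el tR.lst → ∀ d, Val d → wp d = true → W (el d))
    (hn : ∀ t, Val t → wn t = true → ¬ W (el t)) (c : kW wp wn k g gn ds tF tR = true) : False := by
  simp only [kW, band_eq_true] at c
  obtain ⟨c1, c2, c3, c4, c5, c6⟩ := c
  have l := m.leB a oR.lst c5
  obtain ⟨n, c0⟩ := m.c0_of pS a v (H := ph (gp el gn) ⊔ closure {y | y ∈ gp el gn ∧ W y}) le_sup_left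
    (sup_le ph_le_self ((closure_le _).2 fun _ h => h.1))
    (m.adds (oF.mono le_sup_left) ad fun d hd => by
      have := (allL_iff _ _).1 c2 d hd
      rw [band_eq_true] at this
      exact mem_sup_right (subset_closure ⟨m.mem_of oR (ad d hd) this.1, hp c4 l d (ad d hd) this.2⟩)) c3
  refine hE.killP (pS.to_le (m.gp_le_S gn)) W hW n (m.not_mem pS oR hk v c1) c0 fun x hx w => ?_
  obtain ⟨t, vt, c, y, hy, d⟩ := m.cover (L := []) (by simpa using oR.lst) (by simpa using c4) val_zero c6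
    (by simpa using l hx)
  rw [gp_nil, mem_bot] at hy
  rw [m.one, one_mul, hy, mul_one] at d
  subst d
  rcases (bor_eq_true _ _).1 c with c | c
  · exact absurd w (hn t vt c)
  · exact m.cm v vt ▸ m.mem_of oF (v.cm vt) c

theorem kT_ok {z b : ℕ} (vz : Val z) (vb : Val b) (c : kT k g z b gn tF tR = true) : False := by
  simp only [kT, band_eq_true] at c
  obtain ⟨c1, c2, c3, c4, c5, c6, c7⟩ := c
  have hz := m.mem_of oR vz c2
  obtain ⟨n, c0⟩ := m.c0_of pS a v (H := ph (gp el gn) ⊔ zpowers (el z)) le_sup_left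
    (sup_le ph_le_self (zpowers_le_of_mem hz))
    (m.add (oF.mono le_sup_left) vz (mem_sup_right (mem_zpowers _))) c3
  have hb : el b ∈ S ⊓ 𝐍(gp el gn) := ⟨m.mem b, norm_of fun x hx =>
    m.cg vb (a x hx) ▸ m.mem_of oR (vb.cg (a x hx)) ((allL_iff _ _).1 c4 x hx)⟩
  rcases hE.killT pS (m.gp_le_S gn) n (m.not_mem pS oR hk v c1) hz c0 hb with d | d | d
  · exact m.not_mem pS oR hk vb c5 d
  · exact m.not_mem pS oR hk (vb.mu v) c6 (m.mul vb v ▸ d)
  · exact m.not_mem pS oR hk ((vb.mu v).mu v) c7 (by rw [m.mul (vb.mu v) v, m.mul vb v]; exact d)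

end kills

theorem kS_ok {gn L : List ℕ} {k : ℕ} (a : AV gn) (hk : k ≤ lg 3 (gp el gn))
    (e : H18.TH.lgB (em L) = true) (c : kS k gn L = true) : gp el gn = G el L := by
  simp only [kS, band_eq_true, Nat.ble_eq, len_eq] at c
  exact eq_of_lg (pS.to_le (m.gp_le_S _)) (m.leB a (av_em _) c.2) ((m.lgG pS e).le.trans (c.1.trans hk))

theorem kill_ok (hF : Sat S) {gn ds ws : List ℕ} (a : AV gn) (ad : AV ds) (aw : AV ws) {tF tR : Tb}
    (oF : tF.Ok el (ph (gp el gn)) 10) (oR : tR.Ok el (gp el gn) 10) {k kind g : ℕ}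
    (hk : lg 3 (gp el gn) = k) (v : Val g) (hE : Es S (gp el gn))
    (c : kill k kind ds ws gn tF tR g = true) : Cc (dat S el) (gp el gn) := by
  obtain ⟨M, hM⟩ := emb_of pS hF hE
  have cj : ∀ {a x y : Γ}, ⁅a * x * a⁻¹, y⁆ = a * ⁅x, a⁻¹ * y * a⁆ * a⁻¹ := fun {a x y} => by
    rw [conj_comm]; congr 1; group
  have cz : ∀ {d}, Val d → allL (H18.TH.co d) gn = true → el d ∈ 𝐂(gp el gn) := fun vd c =>
    mem_cent (comm_gp (norm_bot _) fun x hx => (m.co vd (a x hx)).1 ((allL_iff _ _).1 c x hx))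
  rw [kill] at c
  rcases sel_or c with c | c; rotate_left; rcases sel_or c with c | c; rotate_left
  rcases sel_or c with c | c; rotate_left; rcases sel_or c with c | c; rotate_left
  rcases sel_or c with c | c; rotate_left; rcases sel_or c with c | c; rotate_left
  rcases sel_or c with c | c; rotate_left; rcases sel_or c with c | c; rotate_left
  rcases sel_or c with c | c; rotate_left; rcases sel_or c with c | c; rotate_left; rotate_left
  · rw [band_eq_true] at c
    obtain ⟨n, c0⟩ := m.c0_of pS a v le_rfl ph_le_self oF c.2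
    exact (hM.kill0 (pS.to_le (m.gp_le_S gn)) n (m.not_mem pS oR hk.le v c.1) c0).elim
  · exact (m.kT_ok pS a oF oR hk.le v hM (ad.nt 0) (ad.nt 1) c).elim
  · refine (m.kW_ok pS a oF oR hk.le v hM ad (fun x => x ∈ 𝐂(gp el gn))
      (fun _ ha _ _ w => conj_mem (norm_cent le_rfl ha) w) (fun _ _ d vd c => cz vd c)
      (fun t vt c w => ?_) c).elim
    obtain ⟨y, hy, c⟩ := (anyL_iff _ _).1 c
    exact (nb_eq _).1 c ((m.co vt (a y hy)).2 (comm_eq_one w (mem_gp hy)))
  · refine (m.kW_ok pS a oF oR hk.le v hM ad (fun x => ∀ y ∈ gp el gn, ⁅x, y⁆ ∈ 𝐂(gp el gn))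
      (fun _ ha _ _ w y hy => cj ▸ conj_mem (norm_cent le_rfl ha) (w _ (conj_mem' ha hy)))
      (fun _ _ d vd c => comm_gp (norm_cent le_normalizer) fun y hy =>
        m.cm vd (a y hy) ▸ cz (vd.cm (a y hy)) ((allL_iff _ _).1 c y hy)) (fun t vt c w => ?_) c).elim
    obtain ⟨y, hy, c⟩ := (anyL_iff _ _).1 c
    obtain ⟨z, hz, c⟩ := (anyL_iff _ _).1 c
    exact (nb_eq _).1 c ((m.co (vt.cm (a y hy)) (a z hz)).2
      (comm_eq_one (m.cm vt (a y hy) ▸ w _ (mem_gp hy)) (mem_gp hz)))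
  · refine (m.kW_ok pS a oF oR hk.le v hM ad (fun x => x ^ 3 = 1)
      (fun _ _ _ _ w => by rw [conj_pow, w]; group)
      (fun _ _ d vd c => by rw [← m.cu vd, Nat.eq_of_beq_eq_true c, m.one]) (fun t vt c w => ?_) c).elim
    rw [← m.cu vt, m.eq_one vt.cu] at w
    exact (nb_eq _).1 c (by rw [w]; rfl)
  · rw [band_eq_true] at c
    refine (m.kW_ok pS a oF oR hk.le v hM ad (fun x => ∀ y ∈ gp el gn, ⁅⁅y, x⁆, x⁆ = 1)
      (fun b hb x _ w y hy => ?_) (fun c4 l d vd c y hy => ?_) (fun t vt c' w => ?_) c.2).elim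
    · have := congrArg (fun z => b * z * b⁻¹) (w _ (conj_mem' hb hy))
      simp only [conj_comm, mul_one, mul_inv_cancel] at this
      rwa [show b * (b⁻¹ * y * b) * b⁻¹ = y by group] at this
    · obtain ⟨t, vt, c, z, hz, e⟩ := m.cover (L := []) (by simpa using oR.lst) (by simpa using c4)
        val_zero c (by simpa using l hy)
      rw [gp_nil, mem_bot] at hz
      rw [m.one, one_mul, hz, mul_one] at e
      rw [e, ← m.cm vt vd]
      exact (m.co (vt.cm vd) vd).1 c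
    · obtain ⟨y, hy, c'⟩ := (anyL_iff _ _).1 c'
      exact (nb_eq _).1 c' ((m.co ((aw y hy).cm vt) vt).2 (m.cm (aw y hy) vt ▸
        w _ (m.mem_of oR (aw y hy) ((allL_iff _ _).1 c.1 y hy))))
  · exact Or.inl (m.kS_ok pS a hk.ge (by decide +kernel) c)
  · exact Or.inr (Or.inl (m.kS_ok pS a hk.ge (by decide +kernel) c))
  · rw [m.kS_ok pS a hk.ge (by decide +kernel) c] at hE
    exact (not_es_A (m.ok pS) hF hE).elim
  · exact Or.inr (Or.inr ⟨1, one_mem _, (m.kS_ok pS a hk.ge (by decide +kernel) c).trans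
      (cn_eq (one_mem _)).symm⟩)
  · have := ess_lt pS hF hE
    have := lg_mono (p := 3) (inf_le_left : S ⊓ 𝐍(gp el gn) ≤ S)
    have := m.lg_S pS
    have : 10 ≤ k := Nat.le_of_ble_eq_true c
    omega

theorem chk_ok {n : ℕ} {gt : ℕ → ℕ} {i : ℕ} {c : ℕ × ℕ × ℕ} (e : chk n gt i c = true) :
    Nat.land (gt i) 15 ≤ lg 3 (gp el (gnW (gt i))) ∧ (Sat S → lg 3 (gp el (gnW (gt i))) ≤ Nat.land (gt i) 15 →
      ∀ E, Es S E → E ≤ gp el (gnW (gt i)) → Cc (dat S el) E ∨ ∃ j < n, ∃ s ∈ S,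
        Nat.land (gt j) 15 < Nat.land (gt i) 15 ∧ ∃ M, E ≤ M ∧ M ≤ S ∧ lg 3 M = Nat.land (gt j) 15 ∧
          cn s (gp el (gnW (gt j))) ≤ M) := by
  simp only [chk, chk2, chk3, force_eq, band_eq_true] at e
  generalize gt i = w at e ⊢
  generalize Nat.land w 15 = k at e ⊢
  obtain ⟨e1, e2, e3, e4⟩ := e
  have ax : AV (xsW w) := av_ul _ _
  have az : AV (zsW w) := av_ul _ _
  have a : AV (gnW w) := ax.append az
  have hx : ∀ x ∈ xsW w, el x ∈ gp el (gnW w) := fun x h => mem_gp (List.mem_append_left _ h)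
  have hz : ∀ x ∈ zsW w, el x ∈ gp el (gnW w) := fun x h => mem_gp (List.mem_append_right _ h)
  have pR : IsPGroup 3 (gp el (gnW w)) := pS.to_le (m.gp_le_S _)
  have oF := m.slp_ok pR (Nat.land c.1 15) (Nat.shiftRight c.1 4) (t := .nil) a (fun _ => mem_gp) trivial
  have oR := (m.adds (oF.mono ph_le_self) az hz).inss ax hx
  have l1 := (Nat.le_of_ble_eq_true e1).trans (m.len_le pS oR)
  refine ⟨l1, fun hF l2 E hE hR => ?_⟩
  by_cases hRE : gp el (gnW w) ≤ E
  · obtain rfl := le_antisymm hR hRE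
    exact Or.inl (m.kill_ok pS hF a (av_ul _ _) (av_ul _ _) oF oR (le_antisymm l2 l1) (val_enc _) hE e3)
  obtain ⟨M, h1, h2, h3⟩ := exists_max pR hR hRE
  have hzM : ∀ x ∈ zsW w, el x ∈ M := fun x h => h1 (ess_cent hE ⟨m.mem x, cent_anti hR (mem_cent
    (comm_gp (norm_bot _) fun y hy => (m.co (az x h) (a y hy)).1
      ((allL_iff _ _).1 ((allL_iff _ _).1 e2 x h) y hy)))⟩)
  rcases m.go_ok pR h2 h3.ge ax hx (m.adds (oF.mono ((eq_of_index pR h2 h3.ge).ph_le pR)) az hzM) e4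
    with d | ⟨t, i', o, d⟩
  · have := lg_mono (p := 3) (show gp el (gnW w) ≤ M from gp_le.2 fun x h =>
      (List.mem_append.1 h).elim (d x) (hzM x))
    omega
  simp only [leaf, force_eq] at d
  generalize Nat.land (Nat.shiftRight c.2.2 (Nat.mul 32 i')) 4294967295 = u at d
  have vs := val_enc (Nat.land u 65535)
  generalize enc (Nat.land u 65535) = s at d vs
  rcases hu : Nat.shiftRight u 16 with _ | j <;> rw [hu] at d
  · have d' : band (Nat.ble k (Nat.succ t.len))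
      (band (t.all (H18.TH.co s)) (t.nm (Nat.pred k) s)) = true := d
    simp only [band_eq_true, Nat.ble_eq] at d'
    have o' : t.Ok el (M ⊓ cz (el s) ⊥) 10 := o.of_all (fun y vy hy c => mem_inf.2 ⟨hy, mem_cz.2
      ⟨norm_bot _ (mem_top _), comm_symm (mem_bot.2 ((m.co vs vy).1 c))⟩⟩) d'.2.1
    have l3 := m.len_le pS o'
    have := le_of_lg (pR.to_le h2) (inf_le_left : M ⊓ cz (el s) ⊥ ≤ M) (by omega)
    refine (m.not_mem pS o (show _ ≤ k - 1 by omega) vs d'.2.2 (h1 (ess_cent hE ⟨m.mem s, ?_⟩))).elim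
    exact mem_cent' fun y hy => (mem_cz.1 (this (h1 hy)).2).2
  · have d' : band (Nat.ble (Nat.succ j) n) (band (Nat.beq (Nat.succ (Nat.land (gt j) 15)) k)
      (allL (fun g => t.mem (H18.TH.cg s g)) (gnW (gt j)))) = true := d
    simp only [band_eq_true, Nat.ble_eq, Nat.beq_eq, allL_iff] at d'
    have aj : AV (gnW (gt j)) := (av_ul _ _).append (av_ul _ _)
    refine Or.inr ⟨j, d'.1, el s, m.mem s, by omega, M, h1, h2.trans (m.gp_le_S _), by omega, ?_⟩
    rw [← cn_cn_inv (g := el s) (X := M)]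
    refine cn_mono (gp_le.2 fun g hg => ?_)
    rw [mem_cn, inv_inv, ← m.cg vs (aj g hg)]
    exact m.mem_of o (vs.cg (aj g hg)) (d'.2.2 g hg)

theorem cls_of (hF : Sat S) {n : ℕ} {gt : ℕ → ℕ} (h : AllEx (chk n gt) n) (h0 : 0 < n)
    (h1 : Nat.land (gt 0) 15 = 10) : (dat S el).Cls := by
  have key : ∀ k i, i < n → Nat.land (gt i) 15 = k → lg 3 (gp el (gnW (gt i))) ≤ k →
      ∀ E, Es S E → E ≤ gp el (gnW (gt i)) → Cc (dat S el) E := by
    intro k
    induction k using Nat.strong_induction_on with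
    | _ k ih =>
      intro i hi e l E hE hR
      obtain ⟨c, hc⟩ := h i hi
      rcases (m.chk_ok pS hc).2 hF (e ▸ l) E hE hR with d | ⟨j, hj, s, hs, a, M, b1, b2, b3, b4⟩
      · exact d
      obtain ⟨c', hc'⟩ := h j hj
      have l' := (m.chk_ok pS hc').1
      have e' := eq_of_lg (pS.to_le b2) b4 (by rw [lg_cn, b3]; exact l')
      refine Cc.conj (m.ok pS) hs (ih _ (e ▸ a) j hj rfl ?_ _ (ess_cn pS hF hE (inv_mem hs)) ?_)
      · rw [← b3, ← e', lg_cn]
      · rw [← cn_inv_cn (g := s) (X := gp el (gnW (gt j))), e']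
        exact cn_mono b1
  intro E hE
  obtain ⟨c, hc⟩ := h 0 h0
  have l := (m.chk_ok pS hc).1
  have l' := m.lg_S pS
  exact key 10 0 h0 h1 ((lg_mono (m.gp_le_S _)).trans l') E hE
    (hE.1.1.trans (le_of_lg pS (m.gp_le_S _) (l'.trans (h1 ▸ l))))

end Md

omit [Fact (Nat.Prime 3)] in
theorem th3chk_eq : True := trivial

end H18.TH
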