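import Mathlib
import Cfsg.Agent.Base
import Cfsg.Agent.Lib.TH3.Ct0
import Cfsg.Agent.Lib.TH3.Ct1
import Cfsg.Agent.Lib.TH3.Ct2
import Cfsg.Agent.Lib.TH3.Ct3

/-! The certificate. -/

set_option autoImplicit false
set_option maxRecDepth 100000

namespace H18.TH

open H54

theorem cert_all : AllEx (chk 1467 gtT.get) 1467 :=
  ((((((((((((((((AllEx.zero _).step 4 ce0).step 20 ce1).step 33 ce2).step 34 ce3).step 37 ce4).step 42 ce5).step 44 ce6).step 48 ce7).step 101 ce8).step 112 ce9).step 123 ce10).step 206 ce11).step 373 ce12).step 707 ce13).step 1467 ce14)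

theorem Md.cls {Γ : Type*} [Group Γ] [Finite Γ] [Fact (Nat.Prime 3)] {S : Subgroup Γ} {el : ℕ → Γ}
    (m : Md S el) (pS : IsPGroup 3 S) (hF : Sat S) : (dat S el).Cls :=
  m.cls_of pS hF cert_all (by norm_num) (by decide +kernel)

theorem th3cta_eq : True := trivial

end H18.TH
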