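import Mathlib
import Cfsg.Agent.Base
import Cfsg.Agent.Lib.TH3.Defs

set_option autoImplicit false

namespace H18.TH

open Subgroup H2 H90 H91 H93.R3 Cfsg Cfsg.FusionSystem
open scoped commutatorElement Pointwise

local notation:max "𝐍(" A ")" => Subgroup.normalizer (SetLike.coe A)
local notation:max "𝐂(" A ")" => Subgroup.centralizer (SetLike.coe A)

universe u

variable {Γ : Type u} [Group Γ] [Finite Γ] {S E M T P Q : Subgroup Γ} {D : Dat Γ}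

omit [Finite Γ] in
theorem dt_m1 (h : D.Ok) : D.z₁ ∈ D.Z₁ := h.gz1 ▸ mem_zpowers _

omit [Finite Γ] in
theorem dt_m2 (h : D.Ok) : D.z₂ ∈ D.Z₂ := h.gz2 ▸ mem_sup_right (mem_zpowers _)

omit [Finite Γ] in
theorem dt_ea (h : D.Ok) : EA 3 D.Z₂ := h.eaV.mono (h.z23.trans (h.z34.trans h.z4V))

omit [Finite Γ] in
theorem dt_cm (h : D.Ok) {x y : Γ} (hx : x ∈ D.Z₂) (hy : y ∈ D.Z₂) : Commute x y :=
  (dt_ea h).comm hy x hx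

omit [Finite Γ] in
theorem dt_c (h : D.Ok) : Commute D.z₁ D.z₂ := dt_cm h (h.z12 (dt_m1 h)) (dt_m2 h)

omit [Finite Γ] in
theorem dt_n1 (h : D.Ok) : D.z₁ ≠ 1 := fun e => by
  haveI : Fact (Nat.Prime 3) := ⟨Nat.prime_three⟩
  have := h.lZ1
  rw [h.gz1, e, zpowers_one_eq_bot, lg_bot] at this
  omega

omit [Finite Γ] in
theorem dt_n2 (h : D.Ok) : D.z₂ ∉ D.Z₁ := fun e => by
  have h2 := h.lZ2
  rw [h.gz2, ← h.gz1, sup_eq_left.2 (zpowers_le.2 e), h.lZ1] at h2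
  omega

omit [Finite Γ] in
theorem dt_dec (h : D.Ok) {x : Γ} (hx : x ∈ D.Z₂) : ∃ a b : ℤ, x = D.z₁ ^ a * D.z₂ ^ b := by
  have hn : zpowers D.z₂ ≤ 𝐍(zpowers D.z₁) :=
    norm_of_cent ((zpowers_le.2 (dt_m2 h)).trans (dt_ea h).comm)
      (zpowers_le.2 (h.z12 (dt_m1 h)))
  rw [h.gz2] at hx
  obtain ⟨_, ⟨a, rfl⟩, _, ⟨b, rfl⟩, e⟩ := (mem_sup_iff hn).1 hx
  exact ⟨a, b, e⟩

omit [Finite Γ] in
theorem dt_mod {x : Γ} (hx : x ^ 3 = 1) {a b : ℤ} (e : (3 : ℤ) ∣ a - b) : x ^ a = x ^ b := by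
  obtain ⟨k, hk⟩ := e
  have : a = 3 * k + b := by omega
  rw [this, zpow_add, zpow_mul, show x ^ (3 : ℤ) = 1 from by exact_mod_cast hx, one_zpow, one_mul]

omit [Finite Γ] in
theorem dt_uniq (h : D.Ok) {a b c e : ℤ} (he : D.z₁ ^ a * D.z₂ ^ b = D.z₁ ^ c * D.z₂ ^ e) :
    (a : ZMod 3) = c ∧ (b : ZMod 3) = e := by
  haveI : Fact (Nat.Prime 3) := ⟨Nat.prime_three⟩
  have p1 := (dt_ea h).pow _ (h.z12 (dt_m1 h))
  have p2 := (dt_ea h).pow _ (dt_m2 h)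
  have h1 : (3 : ℤ) ∣ b - e := by
    by_contra hn
    refine dt_n2 h (mem_of_zpow (p := 3) (by rw [p2]; exact one_mem _) ?_ hn)
    have : D.z₂ ^ (b - e) = D.z₁ ^ (c - a) := by
      calc D.z₂ ^ (b - e) = D.z₁ ^ (-a) * (D.z₁ ^ a * D.z₂ ^ b) * D.z₂ ^ (-e) := by group
        _ = _ := by rw [he]; group
    rw [this]; exact zpow_mem (dt_m1 h) _
  rw [dt_mod p2 h1, mul_left_inj] at he
  have h2 : (3 : ℤ) ∣ a - c := by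
    by_contra hn
    refine dt_n1 h (mem_bot.1 (mem_of_zpow (p := 3) (by rw [p1]; exact one_mem _) ?_ hn))
    rw [zpow_sub, he, mul_inv_cancel]; exact one_mem _
  exact ⟨((ZMod.intCast_eq_intCast_iff_dvd_sub _ _ 3).2 h2).symm,
    ((ZMod.intCast_eq_intCast_iff_dvd_sub _ _ 3).2 h1).symm⟩

omit [Finite Γ] in
theorem dt_conj (h : D.Ok) {g : Γ} {a b c e : ℤ} (h1 : g * D.z₁ * g⁻¹ = D.z₁ ^ a * D.z₂ ^ b)
    (h2 : g * D.z₂ * g⁻¹ = D.z₁ ^ c * D.z₂ ^ e) (i j : ℤ) :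
    g * (D.z₁ ^ i * D.z₂ ^ j) * g⁻¹ = D.z₁ ^ (a * i + c * j) * D.z₂ ^ (b * i + e * j) := by
  have c0 := dt_c h
  have : g * (D.z₁ ^ i * D.z₂ ^ j) * g⁻¹ = (g * D.z₁ * g⁻¹) ^ i * (g * D.z₂ * g⁻¹) ^ j := by
    rw [conj_zpow, conj_zpow]; group
  rw [this, h1, h2, (c0.zpow_zpow _ _).mul_zpow, (c0.zpow_zpow _ _).mul_zpow, ← zpow_mul,
    ← zpow_mul, ← zpow_mul, ← zpow_mul, zpow_add, zpow_add, mul_assoc, mul_assoc,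
    ← mul_assoc (D.z₂ ^ (b * i)), ← (c0.zpow_zpow _ _).eq, mul_assoc]

omit [Finite Γ] in
theorem dt_ex (h : D.Ok) {g : Γ} (hg : g ∈ 𝐍(D.Z₂)) : ∃ d, Dt D.z₁ D.z₂ g d := by
  obtain ⟨a, b, h1⟩ := dt_dec h (conj_mem hg (h.z12 (dt_m1 h)))
  obtain ⟨c, e, h2⟩ := dt_dec h (conj_mem hg (dt_m2 h))
  exact ⟨_, a, b, c, e, h1, h2, rfl⟩

omit [Finite Γ] in
theorem dt_eq (h : D.Ok) {g : Γ} {d d' : ZMod 3} (h1 : Dt D.z₁ D.z₂ g d)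
    (h2 : Dt D.z₁ D.z₂ g d') : d = d' := by
  obtain ⟨a, b, c, e, e1, e2, rfl⟩ := h1
  obtain ⟨a', b', c', e', e1', e2', rfl⟩ := h2
  obtain ⟨u1, u2⟩ := dt_uniq h (e1.symm.trans e1')
  obtain ⟨u3, u4⟩ := dt_uniq h (e2.symm.trans e2')
  push_cast
  rw [u1, u2, u3, u4]

omit [Finite Γ] in
theorem dt_mul (h : D.Ok) {g k : Γ} {d d' : ZMod 3} (h1 : Dt D.z₁ D.z₂ g d)
    (h2 : Dt D.z₁ D.z₂ k d') : Dt D.z₁ D.z₂ (g * k) (d * d') := by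
  obtain ⟨a, b, c, e, e1, e2, rfl⟩ := h1
  obtain ⟨a', b', c', e', e1', e2', rfl⟩ := h2
  refine ⟨a * a' + c * b', b * a' + e * b', a * c' + c * e', b * c' + e * e', ?_, ?_, ?_⟩
  · rw [← dt_conj h e1 e2, ← e1']; group
  · rw [← dt_conj h e1 e2, ← e2']; group
  · push_cast; ring

theorem dt_of_cent {g : Γ} (h : D.Ok) (hg : g ∈ 𝐂(D.Z₂)) : Dt D.z₁ D.z₂ g 1 :=
  ⟨1, 0, 0, 1, by rw [conj_eq hg (h.z12 (dt_m1 h))]; simp, by rw [conj_eq hg (dt_m2 h)]; simp,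
    by simp⟩

/-- The determinant on `Z₂`. -/
theorem exists_dt (h : D.Ok) : ∃ dt : 𝐍(D.Z₂) →* (ZMod 3)ˣ, ∀ (g : Γ) (hg : g ∈ 𝐍(D.Z₂))
    (d : ZMod 3), Dt D.z₁ D.z₂ g d ↔ ((dt ⟨g, hg⟩ : (ZMod 3)ˣ) : ZMod 3) = d := by
  choose f hf using fun g : 𝐍(D.Z₂) => dt_ex h g.2
  let φ : 𝐍(D.Z₂) →* ZMod 3 :=
    { toFun := f
      map_one' := dt_eq h (hf 1) (dt_of_cent h (one_mem _))
      map_mul' := fun a b => dt_eq h (hf (a * b)) (dt_mul h (hf a) (hf b)) }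
  exact ⟨φ.toHomUnits, fun g hg d =>
    ⟨fun e => dt_eq h (hf ⟨g, hg⟩) e, fun e => e ▸ hf ⟨g, hg⟩⟩⟩

omit [Finite Γ] in
theorem dt_pm {x : Γ} (hx : x ^ 3 = 1) (a : ℤ) :
    x ^ a = 1 ∨ ∃ b : ℤ, (b = 1 ∨ b = -1) ∧ x ^ a = x ^ b := by
  have : (3 : ℤ) ∣ a - 0 ∨ (3 : ℤ) ∣ a - 1 ∨ (3 : ℤ) ∣ a - -1 := by omega
  rcases this with e | e | e
  · left; rw [dt_mod hx e, zpow_zero]
  · exact Or.inr ⟨1, Or.inl rfl, dt_mod hx e⟩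
  · exact Or.inr ⟨-1, Or.inr rfl, dt_mod hx e⟩

/-- An element normalizing `Z₁` and `Z₂`: the two eigenvalues. -/
theorem exists_ev (h : D.Ok) {g : Γ} (h1 : g ∈ 𝐍(D.Z₁)) (h2 : g ∈ 𝐍(D.Z₂)) :
    ∃ a e : ℤ, (a = 1 ∨ a = -1) ∧ (e = 1 ∨ e = -1) ∧ Ev g D.Z₁ ⊥ a ∧ Ev g D.Z₂ D.Z₁ e ∧
      Dt D.z₁ D.z₂ g ((a * e : ℤ) : ZMod 3) := by
  have m1 := conj_mem h1 (dt_m1 h)
  rw [h.gz1] at m1
  obtain ⟨a, ha⟩ := m1
  obtain ⟨c, e, he⟩ := dt_dec h (conj_mem h2 (dt_m2 h))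
  beta_reduce at ha
  rcases dt_pm ((dt_ea h).pow _ (h.z12 (dt_m1 h))) a with e1 | ⟨a', ha', e1⟩
  · exact absurd (by rw [e1] at ha; simpa using ha.symm) (dt_n1 h)
  rcases dt_pm ((dt_ea h).pow _ (dt_m2 h)) e with e2 | ⟨e', he', e2⟩
  · refine absurd (mem_of_conj h1 ?_) (dt_n2 h)
    rw [he, e2, mul_one]; exact zpow_mem (dt_m1 h) _
  rw [e2] at he
  have ha0 : g * D.z₁ * g⁻¹ = D.z₁ ^ a' * D.z₂ ^ (0 : ℤ) := by rw [← ha, e1]; simp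
  refine ⟨a', e', ha', he', fun x hx => ?_, fun x hx => ?_, a', 0, c, e', ha0, he, by simp⟩
  · rw [h.gz1] at hx
    obtain ⟨i, rfl⟩ := hx
    beta_reduce
    rw [← conj_zpow, ← ha, e1, ← zpow_mul, ← zpow_mul, mul_comm a', mul_inv_cancel]
    exact one_mem _
  · obtain ⟨i, j, rfl⟩ := dt_dec h hx
    rw [dt_conj h ha0 he, ((dt_c h).zpow_zpow _ _).mul_zpow, ← zpow_mul, ← zpow_mul]
    have : D.z₁ ^ (a' * i + c * j) * D.z₂ ^ (0 * i + e' * j) *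
        (D.z₁ ^ (i * e') * D.z₂ ^ (j * e'))⁻¹ = D.z₁ ^ (a' * i + c * j - i * e') := by
      rw [zero_mul, zero_add, mul_comm e']; group
    rw [this]; exact zpow_mem (dt_m1 h) _

theorem ev_mul (h : D.Ok) {g k : Γ} (h1 : g ∈ 𝐍(D.Z₁)) {a e a' e' : ℤ} (e1 : Ev g D.Z₁ ⊥ a)
    (e2 : Ev g D.Z₂ D.Z₁ e) (e3 : Ev k D.Z₁ ⊥ a') (e4 : Ev k D.Z₂ D.Z₁ e') :
    Ev (g * k) D.Z₁ ⊥ (a * a') ∧ Ev (g * k) D.Z₂ D.Z₁ (e * e') := by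
  refine ⟨fun x hx => ?_, fun x hx => ?_⟩
  · have u1 := mul_inv_eq_one.1 (mem_bot.1 (e1 x hx))
    have u2 := mul_inv_eq_one.1 (mem_bot.1 (e3 x hx))
    have : g * k * x * (g * k)⁻¹ = g * (k * x * k⁻¹) * g⁻¹ := by group
    rw [this, u2, ← conj_zpow, u1, ← zpow_mul, mul_inv_cancel]
    exact one_mem _
  · obtain ⟨y, hy, u1⟩ := e2.exists hx
    obtain ⟨w, hw, u2⟩ := e4.exists hx
    have : g * k * x * (g * k)⁻¹ = g * w * g⁻¹ * (g * x * g⁻¹) ^ e' := by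
      rw [conj_zpow]
      calc g * k * x * (g * k)⁻¹ = g * (k * x * k⁻¹) * g⁻¹ := by group
        _ = _ := by rw [u2]; group
    rw [this, u1, (dt_cm h (h.z12 hy) (zpow_mem hx _)).mul_zpow, ← zpow_mul, mul_assoc,
      mul_inv_cancel_right]
    exact mul_mem (conj_mem h1 hw) (zpow_mem hy _)

/-- An element of `N(S)` of determinant `-1` inverts `S / E₁`. -/
theorem comm_not_mem (h : D.Ok) {r s : Γ} (hr : r ∈ 𝐍(D.S)) (hd : Dt D.z₁ D.z₂ r (-1))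
    (hs : s ∈ D.S) (hs' : s ∉ D.E₁) : ⁅r, s⁆ ∉ D.E₁ := by
  intro hc
  obtain ⟨a, e, ha, he, e1, e2, e3⟩ := exists_ev h (h.n2Z1 (h.nS2 hr)) (h.n1Z (h.nS1 hr))
  have hae := dt_eq h e3 hd
  have z2S : D.Z₂ ≤ D.S := h.z2Y.trans (h.yU.trans (h.uA.trans (h.aE.trans h.e1S)))
  have hw : ⁅s, D.z₂⁆ ∈ D.Z₁ := comm_mem h.sZ2.le hs (dt_m2 h)
  have hw1 : ⁅s, D.z₂⁆ ≠ 1 := fun e => hs' (by
    rw [← h.cZ2]
    refine ⟨hs, ?_⟩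
    rw [h.gz2, ← h.gz1]
    exact cent_sup (zpowers_le.2 (h.cZ1 hs)) (zpowers_le.2 (mem_cent_zpowers.2 e))
      (mem_zpowers s))
  have hcc : ⁅r, s⁆ ∈ 𝐂(D.Z₂) := (h.cZ2.ge hc).2
  obtain ⟨y, hy, u⟩ := e2.exists (dt_m2 h)
  have u1 := mul_inv_eq_one.1 (mem_bot.1 (e1 _ hw))
  have nS : s ∈ 𝐍(D.Z₂) := mem_norm fun x hx => by
    have e : s * x * s⁻¹ = ⁅s, x⁆ * x := by simp only [commutatorElement_def]; group
    rw [e]; exact mul_mem (h.z12 (comm_mem h.sZ2.le hs hx)) hx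
  have m2 : y * D.z₂ ^ e ∈ D.Z₂ := mul_mem (h.z12 hy) (zpow_mem (dt_m2 h) _)
  have u2 : ⁅s, D.z₂⁆ ^ a = ⁅s, D.z₂⁆ ^ e := by
    rw [← u1, conj_comm, u]
    have v1 : r * s * r⁻¹ = ⁅r, s⁆ * s := by simp only [commutatorElement_def]; group
    have v2 := conj_eq hcc (conj_mem nS m2)
    have v3 : s * D.z₂ * s⁻¹ = ⁅s, D.z₂⁆ * D.z₂ := by simp only [commutatorElement_def]; group
    have v4 : s * (y * D.z₂ ^ e) * s⁻¹ = ⁅s, D.z₂⁆ ^ e * (y * D.z₂ ^ e) := by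
      calc s * (y * D.z₂ ^ e) * s⁻¹ = s * y * s⁻¹ * (s * D.z₂ * s⁻¹) ^ e := by
            rw [conj_zpow]; group
        _ = _ := by
          rw [conj_eq (h.cZ1 hs) hy, v3, (dt_cm h (h.z12 hw) (dt_m2 h)).mul_zpow, ← mul_assoc,
            (dt_cm h (h.z12 hy) (zpow_mem (h.z12 hw) e)).eq, mul_assoc]
    calc ⁅r * s * r⁻¹, y * D.z₂ ^ e⁆ =
          ⁅r, s⁆ * (s * (y * D.z₂ ^ e) * s⁻¹) * ⁅r, s⁆⁻¹ * (y * D.z₂ ^ e)⁻¹ := by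
          rw [v1, commutatorElement_def (⁅r, s⁆ * s)]; group
      _ = _ := by rw [v2, v4, mul_inv_cancel_right]
  have p3 := (dt_ea h).pow _ (h.z12 hw)
  have key : ⁅s, D.z₂⁆ ^ (1 : ℤ) = ⁅s, D.z₂⁆ ^ (-1 : ℤ) → False := fun e => hw1 (by
    have := dt_mod p3 (a := -1) (b := 1 + 1) (by decide)
    rw [zpow_add, ← e, left_eq_mul] at this
    simpa using this)
  rcases ha with rfl | rfl <;> rcases he with rfl | rfl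
  · exact absurd hae (by decide)
  · exact key u2
  · exact key u2.symm
  · exact absurd hae (by decide)

end H18.TH
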