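import Mathlib
import Cfsg.Agent.Base
import Cfsg.Agent.Lib.TH3.Defs

set_option autoImplicit false

namespace H18.TH

open Subgroup H2 H90 H91 H93.R3 Cfsg Cfsg.FusionSystem
open scoped commutatorElement Pointwise

local notation:max "𝐍(" A ")" => Subgroup.normalizer (SetLike.coe A)
local notation:max "𝐂(" A ")" => Subgroup.centralizer (SetLike.coe A)

universe u

variable {Γ : Type u} [Group Γ] [Finite Γ] {S E M T P Q : Subgroup Γ} {D : Dat Γ}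

theorem FB_z2V (h : D.Ok) : D.Z₂ ≤ D.V := h.z23.trans (h.z34.trans h.z4V)

theorem FB_vE (h : D.Ok) : D.V ≤ D.E₁ := h.vX.trans h.xE1

theorem FB_e1c (h : D.Ok) : D.E₁ ≤ 𝐂(D.Z₂) := h.cZ2.ge.trans inf_le_right

theorem FB_sE1 (h : D.Ok) : D.S ≤ 𝐍(D.E₁) := le_normalizer.trans h.nS1

theorem FB_ev1 {g x : Γ} {X Y : Subgroup Γ} (e : Ev g X Y 1) (hx : x ∈ X) : ⁅g, x⁆ ∈ Y := by
  have := e x hx
  rwa [zpow_one] at this

theorem FB_mod {a b : ℤ} (k3 : (3 : ℤ) ∣ 1 - a * b * a) : (3 : ℤ) ∣ b - 1 := by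
  have e1 : ((1 - a * b * a : ℤ) : ZMod 3) = 0 := (ZMod.intCast_zmod_eq_zero_iff_dvd _ 3).2 k3
  refine (ZMod.intCast_zmod_eq_zero_iff_dvd _ 3).1 ?_
  push_cast at e1 ⊢
  generalize (a : ZMod 3) = a' at e1
  generalize (b : ZMod 3) = b' at e1 ⊢
  revert a' b'
  decide

theorem cent_E1 (h : D.Ok) {g : Γ} (hg : g ∈ 𝐍(D.E₁)) (hc : g ∈ 𝐂(D.Z₂))
    (ho : (orderOf g).Coprime 3) : g ∈ 𝐂(D.E₁) := by
  haveI : Fact (Nat.Prime 3) := ⟨Nat.prime_three⟩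
  obtain ⟨x, w, h1, h2, h3⟩ := h.pts
  have pE : IsPGroup 3 D.E₁ := h.pS.to_le h.e1S
  have eV : D.E₁ ≤ 𝐍(D.V) := le_normalizer.trans h.n1V
  have eZ : D.E₁ ≤ 𝐍(D.Z₂) := le_normalizer.trans h.n1Z
  have hV := h.n1V hg
  have ev : ∀ i, ∃ k : ℤ, ∃ v ∈ D.V, g * x i * g⁻¹ = v * x i ^ k := fun i => by
    obtain ⟨a1, a2, a3⟩ := h1 i
    have n : g ∈ 𝐍(D.V ⊔ zpowers (x i)) := by
      rw [← a3]
      exact (norm_inf (A := 𝐍(D.E₁) ⊓ 𝐂(D.Z₂)) inf_le_left (norm_rc (inf_le_left.trans h.n1V)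
        (norm_of_cent inf_le_right (zpowers_le.2 a1)))) (mem_inf.2 ⟨hg, hc⟩)
    obtain ⟨k, hk⟩ := ev_of_lg (p := 3) (pE.to_le (sup_le (FB_vE h) (zpowers_le.2 a2))) le_sup_left
      (lg_sup_zpowers_le (eV a2) (h.p1 _ a2)) n hV
    exact ⟨k, hk.exists (mem_sup_right (mem_zpowers _))⟩
  have key : ∀ j, ⁅g, x j⁆ ∈ D.V := fun j => by
    obtain ⟨i, hd⟩ := h3 j
    obtain ⟨a, v, hv, ea⟩ := ev i
    obtain ⟨b, v', hv', eb⟩ := ev j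
    have xi := (h1 i).2.1
    have xj := (h1 j).2.1
    have cV : ⁅x i, x j⁆ ∈ D.V := comm_mem h.c11 xi xj
    have k1 := comm_bil' eZ eZ h.c11 h.c1V h.c1V (comm_le_symm h.c1V) h.c1V (FB_vE h) (FB_vE h) xi xj hv hv' a b
    rw [← ea, ← eb, ← conj_comm] at k1
    have k2 := comm_bil' (V := ⊥) (norm_bot _) (norm_bot _) (comm_le_symm h.c1V)
      (comm_le_bot.2 (h.eaV.comm.trans (cent_anti (FB_z2V h)))) (comm_le_bot.2 (FB_e1c h))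
      (comm_le_bot.2 (cent_symm (FB_e1c h))) (comm_le_bot.2 h.eaV.comm) (FB_z2V h) (FB_vE h) cV xi k1 hv
      (a * b) a
    have dZ : ⁅⁅x i, x j⁆, x i⁆ ∈ D.Z₂ := comm_mem (comm_le_symm h.c1V) cV xi
    rw [inv_mul_cancel_right, ← ea, ← conj_comm, conj_eq hc dZ] at k2
    have k3 : (3 : ℤ) ∣ 1 - a * b * a := by
      by_contra n
      refine hd (mem_bot.1 (mem_of_zpow (p := 3) (k := 1 - a * b * a) ?_ ?_ n))
      · rw [h.eaV.pow _ (FB_z2V h dZ)]; exact one_mem _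
      · rwa [zpow_sub, zpow_one]
    have k4 : (3 : ℤ) ∣ b - 1 := by
      exact FB_mod k3
    obtain ⟨m, hm⟩ := k4
    rw [commutatorElement_def, eb, mul_assoc, ← zpow_sub_one, hm, zpow_mul]
    exact mul_mem hv' (zpow_mem (by exact_mod_cast h.p1 _ xj) m)
  have : D.E₁ ≤ cz g D.V := h2.trans (sup_le (fun y hy => mem_cz.2 ⟨le_normalizer hy, comm_mem_l hV hy⟩)
    ((closure_le _).2 (by
      rintro _ ⟨j, rfl⟩
      exact mem_cz.2 ⟨eV (h1 j).2.1, comm_symm (key j)⟩)))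
  exact cent_of_ph pE ho hg fun y hy => h.vph (comm_symm (mem_cz.1 (this hy)).2)

theorem top_le (h : D.Ok) (hF : Sat D.S) {g : Γ} (hg : g ∈ 𝐍(D.S)) (e1 : Ev g D.Z₁ ⊥ 1)
    (e2 : Ev g D.Z₂ D.Z₁ 1) : g ∈ D.S ⊔ 𝐂(D.S) := by
  haveI : Fact (Nat.Prime 3) := ⟨Nat.prime_three⟩
  have z2S : D.Z₂ ≤ D.S := (FB_z2V h).trans ((FB_vE h).trans h.e1S)
  have z1S : D.Z₁ ≤ D.S := h.z12.trans z2S
  have c1 : g ∈ 𝐂(D.Z₁) := mem_cent fun y hy => mem_bot.1 (FB_ev1 e1 hy)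
  refine le_of_syl (p := 3) (J := D.S ⊔ 𝐂(D.S)) (R := 𝐍(D.S) ⊓ 𝐂(D.Z₁) ⊓ relCentralizer D.Z₂ D.Z₁)
    (sup_le (le_inf (le_inf le_normalizer h.cZ1) (le_rc (norm_of_cent h.cZ1 le_rfl) h.sZ2.le))
      (le_inf (le_inf (cent_le_norm _) (cent_anti z1S)) (le_rc (norm_of_cent le_rfl z1S)
        ((comm_le_bot.2 (cent_anti z2S)).trans bot_le)))) ?_ le_rfl ?_
    (mem_inf.2 ⟨mem_inf.2 ⟨hg, c1⟩, mem_rc.2 ⟨cent_le_norm _ c1, fun z hz => FB_ev1 e2 hz⟩⟩)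
  · have := lg_norm h.pS hF (fn_of_norm le_rfl le_normalizer)
    rw [inf_eq_left.2 le_normalizer] at this
    exact (lg_mono (inf_le_left.trans inf_le_left)).trans this
  · intro x hx ho
    have x1 := (mem_inf.1 (mem_inf.1 hx).1).1
    have x2 := (mem_inf.1 (mem_inf.1 hx).1).2
    have x3 := mem_rc.1 (mem_inf.1 hx).2
    have c2 : x ∈ 𝐂(D.Z₂) := mem_cent fun a ha => mem_bot.1
      (comm_mem_of_coprime (h.pS.to_le z1S) ho (norm_bot ⊤ (mem_top x)) (x3.2 a ha)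
        fun y hy => mem_bot.2 (comm_eq_one x2 hy))
    have c3 := cent_E1 h (h.nS1 x1) c2 ho
    refine mem_sup_right (mem_cent fun s hs => mem_bot.1
      (comm_mem_of_coprime (h.pS.to_le h.e1S) ho (norm_bot ⊤ (mem_top x)) ?_
        fun y hy => mem_bot.2 (comm_eq_one c3 hy)))
    rw [← h.cZ2]
    exact mem_inf.2 ⟨comm_mem_r x1 hs, cent_anti ((FB_z2V h).trans (FB_vE h))
      (comm_mem_l (norm_cent (FB_sE1 h) hs) c3)⟩

end H18.TH
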