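import Mathlib
import Cfsg.Agent.Base
import Cfsg.Agent.Lib.TH3.Defs
import Cfsg.Agent.Lib.TH3.KL

set_option autoImplicit false

namespace H18.TH

open Subgroup H2 H90 H91 H93.R3 Cfsg Cfsg.FusionSystem
open scoped commutatorElement Pointwise

local notation:max "𝐍(" A ")" => Subgroup.normalizer (SetLike.coe A)
local notation:max "𝐂(" A ")" => Subgroup.centralizer (SetLike.coe A)

universe u

variable {Γ : Type u} [Group Γ] [Finite Γ] {S E M T P Q : Subgroup Γ} {D : Dat Γ}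

theorem qa_comm (h : D.Ok) {a t u : Γ} (ha : a ∈ 𝐍(D.U)) (ht : t ∈ D.A) (hu : u ∈ D.U) :
    ⁅a * t * a⁻¹, u⁆ ∈ cn a D.Z₂ := by
  have := conj_mem_cn (g := a) (comm_mem h.aU ht (conj_mem' ha hu))
  rwa [conj_comm, show a * (a⁻¹ * u * a) * a⁻¹ = u by group] at this

theorem qa_cent (h : D.Ok) (a : Γ) : cn a D.A ≤ 𝐂(cn a D.Y) := by
  rw [cn_cent]; exact cn_mono h.aY

theorem qa_aS (h : D.Ok) : D.A ≤ D.S := h.aE.trans h.e1S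

theorem qa_aN (h : D.Ok) : D.A ≤ 𝐍(D.U) := h.nU ▸ inf_le_right

theorem transv (h : D.Ok) (hM : Emb D.S D.U M) {a : Γ} (ha : a ∈ 𝐍(D.U)) (ha' : a ∉ M) :
    D.Z₂ ⊓ cn a D.Y = ⊥ := by
  haveI : Fact (Nat.Prime 3) := ⟨Nat.prime_three⟩
  by_contra ne
  obtain ⟨d, hd, d1⟩ := (bot_or_exists_ne_one _).resolve_left ne
  have pA := h.pS.to_le (qa_aS h)
  have pU := pA.to_le h.uA
  have zU := h.z2Y.trans h.yU
  have pZ := pU.to_le zU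
  have zU' : cn a D.Z₂ ≤ D.U := cn_le zU ha
  have ld : lg 3 (zpowers d) = 1 := lg_zpowers (h.eaU.pow d (zU hd.1)) d1
  have dZ : zpowers d ≤ D.Z₂ := zpowers_le.2 hd.1
  obtain ⟨u, hu, hu'⟩ : ∃ u ∈ D.Z₂, u ∉ zpowers d := SetLike.not_le_iff_exists.1 fun e => by
    have := lg_mono (p := 3) e
    rw [ld, h.lZ2] at this
    omega
  have gZ := le_sup_zpowers pZ dZ (by rw [ld, h.lZ2]) hu hu'
  obtain ⟨t₂, h2, h2'⟩ : ∃ t ∈ D.A, t ∉ D.U := SetLike.not_le_iff_exists.1 fun e => by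
    have := lg_mono (p := 3) e
    rw [h.lA, h.lU] at this
    omega
  obtain ⟨w, hw⟩ : ∃ w, w = ⁅a * t₂ * a⁻¹, u⁆ := ⟨_, rfl⟩
  have wZ : w ∈ cn a D.Z₂ := hw ▸ qa_comm h ha h2 (zU hu)
  have wU : zpowers w ≤ D.U := zpowers_le.2 (zU' wZ)
  obtain ⟨t, ht, ht'⟩ : ∃ t ∈ D.A ⊓ cz w (zpowers d), t ∉ D.U :=
    SetLike.not_le_iff_exists.1 fun e => by
      have := (lg_cz pA pZ dZ (norm_of_cent h.aY (dZ.trans h.z2Y)) fun x hx =>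
        comm_mem h.aU hx (zU' wZ)).trans (Nat.add_le_add_right (lg_mono (p := 3) e) _)
      rw [ld, h.lA, h.lU, h.lZ2] at this
      omega
  have nU : ∀ {X : Subgroup Γ}, X ≤ D.U → D.U ≤ 𝐍(X) := fun e => norm_of_cent h.eaU.comm e
  have ty : ∀ x ∈ D.Y, ⁅t, x⁆ = 1 := fun x hx => comm_eq_one (h.aY ht.1) hx
  have yy : ∀ x ∈ cn a D.Y, ⁅a * t₂ * a⁻¹, x⁆ = 1 := fun x hx =>
    comm_eq_one (qa_cent h a (conj_mem_cn h2)) hx
  have k1 : D.Z₂ ⊔ zpowers w ≤ cz t (zpowers d) := sup_le (fun x hx =>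
    mem_cz.2 ⟨nU (dZ.trans zU) (zU hx), comm_symm (by rw [ty x (h.z2Y hx)]; exact one_mem _)⟩)
    (zpowers_le.2 (mem_cz.2 ⟨nU (dZ.trans zU) (zU' wZ), comm_symm (mem_cz.1 ht.2).2⟩))
  have k0 : ∀ x ∈ cn a D.Y, x ∈ cz (a * t₂ * a⁻¹) (zpowers w) := fun x hx =>
    mem_cz.2 ⟨nU wU (cn_le h.yU ha hx), comm_symm (by rw [yy x hx]; exact one_mem _)⟩
  have k2 : D.Z₂ ⊔ cn a D.Z₂ ≤ cz (a * t₂ * a⁻¹) (zpowers w) := sup_le (gZ.trans (sup_le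
    (zpowers_le.2 (k0 d hd.2)) (zpowers_le.2 (mem_cz.2 ⟨nU wU (zU hu),
      comm_symm (hw ▸ mem_zpowers w)⟩)))) fun x hx => k0 x (cn_mono h.z2Y hx)
  have k3 : zpowers d ⊔ zpowers w ≤ cn a D.Y :=
    sup_le (zpowers_le.2 hd.2) (zpowers_le.2 (cn_mono h.z2Y wZ))
  have l1 : D.Z₂ ⊔ cn a D.Z₂ ≤ D.U := sup_le zU zU'
  have l2 : D.Z₂ ⊔ zpowers w ≤ D.Z₂ ⊔ cn a D.Z₂ := sup_le_sup_left (zpowers_le.2 wZ) _
  have l3 : zpowers d ⊔ zpowers w ≤ D.Z₂ ⊔ zpowers w := sup_le_sup_right dZ _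
  refine ha' (hM.link pU (k := 5) (X := fun i => match i with
    | 0 => D.U | 1 => D.Z₂ ⊔ cn a D.Z₂ | 2 => D.Z₂ ⊔ zpowers w | 3 => zpowers d ⊔ zpowers w
    | 4 => zpowers d | _ => ⊥) rfl (fun i hi => ?_) bot_le (h.nU.ge ht.1) ht' (h.nU.ge h2) h2' ha
    (fun i hi x hx => ?_) fun i hi x hx => ?_) <;> interval_cases i
  exacts [l1, l2, l3, le_sup_left, bot_le, mem_sup_left (comm_mem h.aU ht.1 hx),
    mem_sup_left (comm_mem h.aU ht.1 (l1 hx)), mem_sup_left (comm_symm (mem_cz.1 (k1 hx)).2),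
    comm_symm (mem_cz.1 (k1 (l3 hx))).2, ty x (h.z2Y (dZ hx)), mem_sup_right (qa_comm h ha h2 hx),
    mem_sup_right (comm_symm (mem_cz.1 (k2 hx)).2),
    mem_sup_right (comm_symm (mem_cz.1 (k2 (l2 hx))).2),
    by rw [yy x (k3 hx)]; exact one_mem _, yy x (k3 (mem_sup_left hx))]

theorem transv' (h : D.Ok) (hM : Emb D.S D.U M) {a : Γ} (ha : a ∈ 𝐍(D.U)) (ha' : a ∉ M) :
    cn a D.Z₂ ⊓ D.Y = ⊥ := by
  have := congrArg (cn a) (transv h hM (inv_mem ha) fun e => ha' (inv_mem_iff.1 e))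
  rwa [cn_inf, cn_cn_inv, cn_eq (norm_bot ⊤ (mem_top a))] at this

theorem swap (h : D.Ok) (hM : Emb D.S D.U M) {a y : Γ} (ha : a ∈ 𝐍(D.U)) (ha' : a ∉ M)
    (hy : y ∈ cn a D.A) (hy' : y ∉ D.U) :
    ∃ x ∈ D.A, ∀ u ∈ D.Z₂, x⁻¹ * y * u * (x⁻¹ * y)⁻¹ = u⁻¹ * (y * u * y⁻¹) := by
  haveI : Fact (Nat.Prime 3) := ⟨Nat.prime_three⟩
  have pA := h.pS.to_le (qa_aS h)
  have zU := h.z2Y.trans h.yU
  have zU' : cn a D.Z₂ ≤ D.U := cn_le zU ha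
  obtain ⟨t, ht, rfl⟩ : ∃ t ∈ D.A, y = a * t * a⁻¹ := ⟨_, mem_cn.1 hy, by group⟩
  have yN := mul_mem (mul_mem ha (qa_aN h ht)) (inv_mem ha)
  have k : ∀ u ∈ D.Z₂, u ≠ 1 → ∃ x ∈ D.A, (a * t * a⁻¹)⁻¹ * x * a ∈ M ∧
      ⁅a * t * a⁻¹, u⁆ = x⁻¹ * (a * t * a⁻¹ * u * (a * t * a⁻¹)⁻¹) * x := fun u hu u1 => by
    have wZ := qa_comm h ha ht (zU hu)
    have wY : ⁅a * t * a⁻¹, u⁆ ∉ D.Y := fun e => by
      have e1 : ⁅a * t * a⁻¹, u⁆ = 1 := mem_bot.1 (transv' h hM ha ha' ▸ mem_inf.2 ⟨wZ, e⟩)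
      refine u1 (mem_bot.1 (transv h hM ha ha' ▸ mem_inf.2 ⟨hu, mem_cn.2
        (h.fixU t ht (fun e => hy' (conj_mem ha e)) _ (conj_mem' ha (zU hu)) ?_)⟩))
      rw [← conj_eq_one_iff (a := a), conj_comm, ← e1]
      congr 1; group
    obtain ⟨x, hx, e⟩ := exists_comm_of_lg pA ((pA.to_le h.uA).to_le zU) bot_le (norm_bot _)
      (fun x hx => comm_mem h.aU hx (zU' wZ)) (by
        have := lg_mono (p := 3) (show D.A ⊓ cz ⁅a * t * a⁻¹, u⁆ ⊥ ≤ D.U from fun x hx => by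
          by_contra e
          exact wY (h.fixU x hx.1 e _ (zU' wZ) (mem_cz.1 hx.2).2))
        rw [h.lA, h.lZ2, lg_bot]
        rw [h.lU] at this
        omega) (inv_mem hu)
    have e1 : ⁅a * t * a⁻¹, u⁆ = x⁻¹ * (a * t * a⁻¹ * u * (a * t * a⁻¹)⁻¹) * x := by
      have c := h.eaU.comm (zU' wZ) u (zU hu)
      rw [mem_bot, mul_inv_eq_one, commutatorElement_def x, mul_inv_eq_iff_eq_mul, c] at e
      rw [show a * t * a⁻¹ * u * (a * t * a⁻¹)⁻¹ = ⁅a * t * a⁻¹, u⁆ * u by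
        rw [commutatorElement_def, inv_mul_cancel_right], ← e]
      group
    refine ⟨x, hx, by_contra fun n => u1 (mem_bot.1 (transv h hM (mul_mem (mul_mem (inv_mem yN)
      (qa_aN h hx)) ha) n ▸ mem_inf.2 ⟨hu, mem_cn.2 ?_⟩)), e1⟩
    have := h.z2Y (mem_cn.1 wZ)
    rw [e1] at this
    convert this using 1
    group
  have z1 : D.z₁ ≠ 1 := fun e => by
    have := h.lZ1
    rw [h.gz1, e, zpowers_one_eq_bot, lg_bot] at this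
    omega
  obtain ⟨x, hx, m, -⟩ := k D.z₁ (h.z12 (h.gz1 ▸ mem_zpowers _)) z1
  refine ⟨x, hx, fun u hu => ?_⟩
  by_cases u1 : u = 1
  · rw [u1]; group
  obtain ⟨x', hx', m', e⟩ := k u hu u1
  have v : x⁻¹ * x' ∈ D.U := by_contra fun n => ha' (hM.p3 _ (h.nU.ge (mul_mem (inv_mem hx) hx')) n
    a ha (by convert mul_mem (inv_mem m) m' using 1; group))
  have wU := zU' (qa_comm h ha ht (zU hu))
  have c := conj_eq (h.eaU.comm v) wU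
  have c' := conj_eq (h.eaU.comm (inv_mem (zU hu))) wU
  calc _ = x⁻¹ * x' * (x'⁻¹ * (a * t * a⁻¹ * u * (a * t * a⁻¹)⁻¹) * x') * (x⁻¹ * x')⁻¹ := by group
    _ = _ := by rw [← e, c, ← c', commutatorElement_def]; group

end H18.TH
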