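import Mathlib
import Cfsg.Agent.Base
import Cfsg.Agent.Lib.TH3.Defs
import Cfsg.Agent.Lib.TH3.QA
import Cfsg.Agent.Lib.TH3.DT

set_option autoImplicit false

namespace H18.TH

open Subgroup H2 H90 H91 H93.R3 Cfsg Cfsg.FusionSystem
open scoped commutatorElement Pointwise

local notation:max "𝐍(" A ")" => Subgroup.normalizer (SetLike.coe A)
local notation:max "𝐂(" A ")" => Subgroup.centralizer (SetLike.coe A)

universe u

variable {Γ : Type u} [Group Γ] [Finite Γ] {S E M T P Q : Subgroup Γ} {D : Dat Γ}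

/-- An element of `N(U)` normalizing `Z₂` and `Y` normalizes `A C(U)`. -/
theorem norm_AC (h : D.Ok) (hF : Sat D.S) (hU : Es D.S D.U) {g : Γ} (hg : g ∈ 𝐍(D.U))
    (h1 : g ∈ 𝐍(D.Z₂)) (h2 : g ∈ 𝐍(D.Y)) : g ∈ 𝐍(D.A ⊔ 𝐂(D.U)) := by
  haveI : Fact (Nat.Prime 3) := ⟨Nat.prime_three⟩
  have zU := h.z2Y.trans h.yU
  have l : D.A ⊔ 𝐂(D.U) ≤ 𝐍(D.U) ⊓ (𝐂(D.Y) ⊓ relCentralizer D.U D.Z₂) := sup_le
    (le_inf (qa_aN h) (le_inf h.aY (le_rc (norm_of_cent h.aY h.z2Y) h.aU)))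
    (le_inf (cent_le_norm _) (le_inf (cent_anti h.yU) (le_rc (norm_of_cent le_rfl zU)
      ((comm_le_bot.2 le_rfl).trans bot_le))))
  rw [le_antisymm l (le_of_syl (p := 3) l ((lg_mono inf_le_left).trans
    (h.nU ▸ lg_norm h.pS hF hU.2.1)) le_rfl fun x hx c => mem_sup_right (mem_cent fun u hu =>
      mem_bot.1 (comm_mem_of_coprime (h.pS.to_le (zU.trans (h.uA.trans (qa_aS h)))) c
        (norm_bot ⊤ (mem_top x)) ((mem_rc.1 hx.2.2).2 u hu) fun y hy =>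
          comm_eq_one hx.2.1 (h.z2Y hy))))]
  exact zpowers_le.1 (norm_inf (norm_norm (zpowers_le.2 hg)) (norm_inf (norm_cent (zpowers_le.2 h2))
    (norm_rc (zpowers_le.2 hg) (zpowers_le.2 h1))))

theorem qb_dec : ∀ a b c e : ZMod 3, (∀ k : ZMod 3, (a + k) * (e + k) - b * c ≠ 0) →
    b ≠ 0 ∧ ∃ k : ZMod 3, (a + k) * (e + k) - b * c = -1 := by decide

theorem torus (h : D.Ok) (hF : Sat D.S) (hU : Es D.S D.U) :
    ∃ b ∈ nc D.A 𝐍(D.U) 𝐂(D.U), b ∈ 𝐍(D.U) ∧ b ∈ 𝐍(D.A) ∧ Dt D.z₁ D.z₂ b (-1) ∧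
      b * D.z₁ * b⁻¹ ∉ D.Z₁ := by
  haveI : Fact (Nat.Prime 3) := ⟨Nat.prime_three⟩
  obtain ⟨M, hM⟩ := emb_of h.pS hF hU
  obtain ⟨a, ha, ha'⟩ := SetLike.not_le_iff_exists.1 hM.ne
  have pA := h.pS.to_le (qa_aS h)
  have pU := pA.to_le h.uA
  have zU := h.z2Y.trans h.yU
  have zU' : cn a D.Z₂ ≤ D.U := cn_le zU ha
  have aN : cn a D.A ≤ 𝐍(D.U) := cn_le (qa_aN h) (le_normalizer ha)
  have aC : cn a D.A ≤ nc D.A 𝐍(D.U) 𝐂(D.U) := fun y hy => by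
    have := conj_mem_nc (K := 𝐂(D.U)) ha (mem_cn.1 hy)
    rwa [show a * (a⁻¹ * y * a) * a⁻¹ = y by group] at this
  obtain ⟨y₀, h0, h0'⟩ : ∃ y ∈ cn a D.A, y ∉ D.U := SetLike.not_le_iff_exists.1 fun e => by
    have := lg_mono (p := 3) e
    rw [lg_cn, h.lA, h.lU] at this
    omega
  obtain ⟨y₁, h1, h1'⟩ : ∃ y ∈ cn a D.A, y ∉ D.U ⊔ zpowers y₀ :=
    SetLike.not_le_iff_exists.1 fun e => by
      have m : (a⁻¹ * y₀ * a) ^ 3 ∈ D.U := by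
        obtain ⟨u, hu, v, hv, e⟩ := (mem_sup_iff (h.vA.trans (qa_aN h))).1 (h.aUV (mem_cn.1 h0))
        have c := h.aY (h.vA hv) _ (h.z2Y (comm_mem h.aU (h.vA hv) hu))
        have m1 := zU (comm_mem h.aU (h.vA hv) hu)
        have m2 := conj_mem (qa_aN h (h.vA hv)) hu
        have m3 := conj_mem (qa_aN h (h.vA hv)) m2
        rw [e, show (u * v) ^ 3 = u * (v * u * v⁻¹) * (v * (v * u * v⁻¹) * v⁻¹) * v ^ 3 by
          simp only [pow_succ, pow_zero]; group, h.eaV.pow v hv, mul_one]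
        exact mul_mem (mul_mem hu m2) m3
      have := (lg_mono (p := 3) e).trans (lg_sup_zpowers_le (aN h0) (by
        have := conj_mem ha m
        rwa [← conj_pow, show a * (a⁻¹ * y₀ * a) * a⁻¹ = y₀ by group] at this))
      rw [lg_cn, h.lA, h.lU] at this
      omega
  have ph : ∀ y ∈ cn a D.A, ∀ u ∈ D.Z₂, u⁻¹ * (y * u * y⁻¹) ∈ cn a D.Z₂ := fun y hy u hu => by
    have m := qa_comm h ha (mem_cn.1 hy) (zU hu)
    rw [show a * (a⁻¹ * y * a) * a⁻¹ = y by group] at m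
    have c := conj_eq (h.eaU.comm (inv_mem (zU hu))) (zU' m)
    rw [← c, commutatorElement_def] at m
    convert m using 1
    group
  have pm : ∀ y ∈ cn a D.A, ∀ y' ∈ cn a D.A, ∀ u ∈ D.Z₂, u⁻¹ * (y * y' * u * (y * y')⁻¹) =
      u⁻¹ * (y * u * y⁻¹) * (u⁻¹ * (y' * u * y'⁻¹)) := fun y hy y' hy' u hu => by
    rw [← conj_eq (qa_cent h a hy) (cn_mono h.z2Y (ph y' hy' u hu))]
    group
  have hk : ∀ k : ℕ, y₁ * y₀ ^ k ∈ cn a D.A := fun k => mul_mem h1 (pow_mem h0 k)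
  obtain ⟨x₀, m0, e0⟩ := swap h hM ha ha' h0 h0'
  choose x m e using fun k : ℕ => swap h hM ha ha' (hk k) fun e =>
    h1' (mem_of_mul (mem_sup_left e) (mem_sup_right (pow_mem (mem_zpowers y₀) k)))
  obtain ⟨g, hg⟩ : ∃ g : ℕ → Γ, ∀ k, g k = (x₀⁻¹ * y₀)⁻¹ * ((x k)⁻¹ * (y₁ * y₀ ^ k)) := ⟨_, fun _ => rfl⟩
  have c0 : cn (x₀⁻¹ * y₀) D.Z₂ = cn a D.Z₂ := eq_of_lg (pU.to_le zU')
    (cn_le_iff.2 fun u hu => e0 u hu ▸ ph _ h0 u hu) (by rw [lg_cn, lg_cn])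
  have g1 : ∀ k, ∀ u, g k * u * (g k)⁻¹ = (x₀⁻¹ * y₀)⁻¹ * ((x k)⁻¹ * (y₁ * y₀ ^ k) * u *
      ((x k)⁻¹ * (y₁ * y₀ ^ k))⁻¹) * (x₀⁻¹ * y₀) := fun k u => by rw [hg]; group
  have gZ : ∀ k, g k ∈ 𝐍(D.Z₂) := fun k => mem_norm fun u hu => by
    rw [g1, e k u hu, ← mem_cn, c0]
    exact ph _ (hk k) u hu
  have gU : ∀ k, g k ∈ 𝐍(D.U) := fun k => hg k ▸ mul_mem (inv_mem (mul_mem (inv_mem (qa_aN h m0))
    (aN h0))) (mul_mem (inv_mem (qa_aN h (m k))) (aN (hk k)))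
  have gC : ∀ k, g k ∈ nc D.A 𝐍(D.U) 𝐂(D.U) := fun k => hg k ▸ mul_mem (inv_mem (mul_mem
    (inv_mem (le_nc m0)) (aC h0))) (mul_mem (inv_mem (le_nc (m k))) (aC (hk k)))
  have gY : ∀ k, g k ∈ 𝐍(D.Y) := fun k => by
    have a1 := h.aY.trans (cent_anti (inf_le_left (b := cn a D.Y)))
    have a2 := (qa_cent h a).trans (cent_anti (inf_le_right (a := D.Y)))
    have a3 : g k ∈ 𝐂(D.Y ⊓ cn a D.Y) := hg k ▸ mul_mem (inv_mem (mul_mem (inv_mem (a1 m0)) (a2 h0)))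
      (mul_mem (inv_mem (a1 (m k))) (a2 (hk k)))
    have a4 : D.Z₂ ⊔ D.Y ⊓ cn a D.Y = D.Y := le_antisymm (sup_le h.z2Y inf_le_left)
      (le_sup_of_lg (pU.to_le h.yU) h.z2Y (by rw [h.lY, h.lZ2]) inf_le_left fun l => by
        have b1 := lg_inf pU h.yU (cn_le h.yU ha)
        rw [le_bot_iff.1 ((le_inf l inf_le_right).trans (transv h hM ha ha').le), lg_cn, lg_bot,
          h.lY, h.lU] at b1
        omega)
    rw [← a4]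
    exact zpowers_le.1 (norm_sup (zpowers_le.2 (gZ k)) (zpowers_le.2 (cent_le_norm _ a3)))
  have gk : ∀ k, ∀ u ∈ D.Z₂, g k * u * (g k)⁻¹ = g 0 * u * (g 0)⁻¹ * u ^ k := fun k u hu => by
    induction k with
    | zero => simp
    | succ k ih =>
      rw [pow_succ u, ← mul_assoc, ← ih, g1, g1, e _ u hu, e _ u hu, pow_succ, ← mul_assoc y₁,
        pm _ (hk k) _ h0 u hu, ← e0 u hu]
      group
  have z1 : D.z₁ ∈ D.Z₂ := h.gz2 ▸ mem_sup_left (mem_zpowers _)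
  have z2 : D.z₂ ∈ D.Z₂ := h.gz2 ▸ mem_sup_right (mem_zpowers _)
  have cz : Commute D.z₁ D.z₂ := h.eaU.comm (zU z2) _ (zU z1)
  have ex : ∀ u ∈ D.Z₂, ∃ i j : ℤ, u = D.z₁ ^ i * D.z₂ ^ j := fun u hu => by
    rw [h.gz2] at hu
    obtain ⟨_, ⟨i, rfl⟩, _, ⟨j, rfl⟩, e⟩ := (mem_sup_iff (norm_of_cent ((zpowers_le.2 (zU z2)).trans
      h.eaU.comm) (zpowers_le.2 (zU z1)))).1 hu
    exact ⟨i, j, e⟩
  obtain ⟨α, β, e1⟩ := ex _ (conj_mem (gZ 0) z1)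
  obtain ⟨γ, ε, e2⟩ := ex _ (conj_mem (gZ 0) z2)
  have f1 : ∀ k : ℕ, g k * D.z₁ * (g k)⁻¹ = D.z₁ ^ (α + k) * D.z₂ ^ β := fun k => by
    rw [gk k _ z1, e1, mul_assoc, ← ((cz.pow_left k).zpow_right β).eq, zpow_add, zpow_natCast,
      mul_assoc]
  have f2 : ∀ k : ℕ, g k * D.z₂ * (g k)⁻¹ = D.z₁ ^ γ * D.z₂ ^ (ε + k) := fun k => by
    rw [gk k _ z2, e2, zpow_add, zpow_natCast, mul_assoc]
  obtain ⟨dt, hdt⟩ := exists_dt h
  obtain ⟨b0, k, hk'⟩ := qb_dec α β γ ε fun k e => (dt ⟨_, gZ k.val⟩).ne_zero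
    ((hdt _ (gZ k.val) 0).1 ⟨_, _, _, _, f1 _, f2 _, by push_cast; rwa [ZMod.natCast_zmod_val]⟩)
  obtain ⟨b, hb, c, hc, e3⟩ := (mem_sup_iff' (inf_le_left.trans (norm_cent le_rfl))).1
    (mem_of_norm h.pS hF hU.2.1 (gU k.val) (h.nU.symm ▸ norm_AC h hF hU (gU _) (gZ _) (gY _)))
  have f3 : ∀ u ∈ D.Z₂, b * u * b⁻¹ = g k.val * u * (g k.val)⁻¹ := fun u hu => by
    conv_lhs => rw [← conj_eq hc (zU hu)]
    rw [e3]; group
  refine ⟨b, mem_of_mul (e3 ▸ gC k.val) (k_le_nc hc), hb.1, h.nU ▸ hb.2,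
    ⟨_, _, _, _, (f3 _ z1).trans (f1 _), (f3 _ z2).trans (f2 _), by
      push_cast; rwa [ZMod.natCast_zmod_val]⟩, fun n => ?_⟩
  rw [f3 _ z1, f1] at n
  have n1 : D.z₁ ∈ D.Z₁ := h.gz1 ▸ mem_zpowers _
  have n2 := mem_of_mul' n (zpow_mem n1 _)
  have n3 : D.z₂ ∈ D.Z₁ := by
    refine mem_of_pow_coprime (n := β.natAbs) (m := 3) ?_
      (by rw [h.eaU.pow _ (zU z2)]; exact one_mem _) ((Nat.Prime.coprime_iff_not_dvd Nat.prime_three).2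
        fun d => b0 ((ZMod.intCast_zmod_eq_zero_iff_dvd β 3).2 (Int.natCast_dvd.2 d))).symm
    rcases Int.natAbs_eq β with e | e <;> rw [e] at n2
    · rwa [zpow_natCast] at n2
    · rwa [zpow_neg, inv_mem_iff, zpow_natCast] at n2
  have := lg_mono (p := 3) (h.gz2.le.trans (sup_le (zpowers_le.2 n1) (zpowers_le.2 n3)))
  rw [h.lZ1, h.lZ2] at this
  omega

end H18.TH
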