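import Mathlib
import Cfsg.Agent.Base
import Cfsg.Agent.Lib.TH3.Defs
import Cfsg.Agent.Lib.TH3.KL
import Cfsg.Agent.Lib.TH3.QB
import Cfsg.Agent.Lib.TH3.FB

set_option autoImplicit false

namespace H18.TH

open Subgroup H2 H90 H91 H93.R3 Cfsg Cfsg.FusionSystem
open scoped commutatorElement Pointwise

local notation:max "𝐍(" A ")" => Subgroup.normalizer (SetLike.coe A)
local notation:max "𝐂(" A ")" => Subgroup.centralizer (SetLike.coe A)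

universe u

variable {Γ : Type u} [Group Γ] [Finite Γ] {S E M T P Q : Subgroup Γ} {D : Dat Γ}

theorem LL_sE2 (h : D.Ok) : D.S ≤ 𝐍(D.E₂) := le_normalizer.trans h.nS2

theorem LL_z2S (h : D.Ok) : D.Z₂ ≤ D.S := (FB_z2V h).trans ((FB_vE h).trans h.e1S)

theorem LL_esU (h : D.Ok) (hF : Sat D.S) {s : Γ} (hs : s ∈ D.S) (e : Es D.S (cn s D.U)) : Es D.S D.U := by
  have := ess_cn h.pS hF e (inv_mem hs)
  rwa [cn_inv_cn] at this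

theorem LL_alp (h : D.Ok) (hF : Sat D.S) (hc : D.Cls) {H : Subgroup Γ} (h1 : 𝐍(D.E₁) ≤ H)
    (h2 : Es D.S D.E₂ → 𝐍(D.E₂) ≤ H) {b : Γ} (hb : b ∈ 𝐍(D.A)) :
    ∃ b' ∈ H, ∀ x ∈ D.A, b * x * b⁻¹ = b' * x * b'⁻¹ := by
  haveI : Fact (Nat.Prime 3) := ⟨Nat.prime_three⟩
  have aS : D.A ≤ D.S := h.aE.trans h.e1S
  obtain ⟨σ, k, e⟩ := alperin_induction h.pS hF
    (C := fun P σ => 3 ^ 5 < Nat.card P → ∃ b' ∈ H, ∀ x ∈ P, σ x = b' * x * b'⁻¹)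
    (fun P R σ hR hσ hP c => by
      obtain ⟨g, hg, f⟩ := norm_of_iso hσ
      refine ⟨g, ?_, fun x hx => f x (hP hx)⟩
      rcases hR with rfl | hR
      · exact h1 (h.nS1 hg)
      rcases hc R hR with rfl | rfl | ⟨s, hs, rfl⟩
      · exact h1 hg
      · exact h2 hR hg
      · exfalso
        have := Subgroup.card_le_of_le hP
        rw [card_eq (p := 3) (h.pS.to_le hR.1.1), lg_cn, h.lU] at this
        omega)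
    (fun P Q σ τ hσ _ c1 c2 hm c => by
      obtain ⟨b₁, m1, f1⟩ := c1 c
      obtain ⟨b₂, m2, f2⟩ := c2 (c.trans_le (hσ.card_le hm))
      refine ⟨b₂ * b₁, mul_mem m2 m1, fun x hx => ?_⟩
      rw [Equiv.Perm.mul_apply, f2 _ (hm x hx), f1 x hx]
      group)
    (iso_cn aS (cn_le le_rfl hb |>.trans aS)).map
  obtain ⟨b', m, f⟩ := k (by rw [card_eq (p := 3) (h.pS.to_le aS), h.lA]; norm_num)
  exact ⟨b', m, fun x hx => by rw [← f x hx, e x hx, cj_apply]⟩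

theorem par1 (h : D.Ok) (hF : Sat D.S) :
    Par 3 D.S D.E₁ 𝐍(D.E₁) 𝐂(D.E₁) (𝐍(D.E₁) ⊓ 𝐍(D.S)) := by
  haveI : Fact (Nat.Prime 3) := ⟨Nat.prime_three⟩
  have e := inf_eq_left.2 (FB_sE1 h)
  have := par_of h.pS hF (fn_of_norm h.e1S (FB_sE1 h))
    ((inf_le_inf_left _ (cent_anti ((FB_z2V h).trans (FB_vE h)))).trans h.cZ2.le) (by rw [e, h.l1, h.lS])
  rwa [e] at this

theorem moves2 (h : D.Ok) (hF : Sat D.S) (h2 : Es D.S D.E₂) : ¬ 𝐍(D.E₂) ≤ 𝐍(D.Z₂) := by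
  haveI : Fact (Nat.Prime 3) := ⟨Nat.prime_three⟩
  intro hn
  obtain ⟨M, hM⟩ := emb_of h.pS hF h2
  obtain ⟨X₁, X₂, X₃, l3, l2, l1, n1, n2, n3, c0, c1, c2, c3⟩ := h.ch2
  rw [inf_eq_left.2 hn] at n1 n2 n3
  obtain ⟨g, hg, hg'⟩ := SetLike.not_le_iff_exists.1 fun e : D.S ≤ D.E₂ => by
    have := lg_mono (p := 3) e
    rw [h.lS, h.l2] at this
    omega
  exact hM.kill3 (h.pS.to_le h.e2S) l1 l2 l3 n1 n2 n3 (mem_inf.2 ⟨hg, LL_sE2 h hg⟩) hg'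
    (fun x hx => comm_mem c0 hg hx) (fun x hx => comm_mem c1 hg hx) (fun x hx => comm_mem c2 hg hx)
    (fun x hx => comm_mem c3 hg hx)

theorem es_U (h : D.Ok) (hF : Sat D.S) (hc : D.Cls) (hO : (groupFusionSystem D.S).core = ⊥)
    (h2 : ¬ Es D.S D.E₂) : Es D.S D.U := by
  haveI : Fact (Nat.Prime 3) := ⟨Nat.prime_three⟩
  by_contra hU
  have := eq_bot_of_norm h.pS hF hO (LL_z2S h) (h.nS1.trans h.n1Z) fun E hE => by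
    rcases hc E hE with rfl | rfl | ⟨s, hs, rfl⟩
    · exact ⟨(FB_z2V h).trans (FB_vE h), h.n1Z⟩
    · exact absurd hE h2
    · exact absurd (LL_esU h hF hs hE) hU
  have e := h.lZ2
  rw [this, lg_bot] at e
  omega

theorem moves1 (h : D.Ok) (hF : Sat D.S) (hc : D.Cls) (hO : (groupFusionSystem D.S).core = ⊥) :
    ¬ 𝐍(D.E₁) ≤ 𝐍(D.Z₁) := by
  haveI : Fact (Nat.Prime 3) := ⟨Nat.prime_three⟩
  intro hn
  by_cases hU : Es D.S D.U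
  · obtain ⟨b, -, -, hb, -, k⟩ := torus h hF hU
    obtain ⟨b', m, f⟩ := LL_alp h hF hc hn (fun _ => h.n2Z1) hb
    have z : D.z₁ ∈ D.Z₁ := h.gz1.ge (mem_zpowers _)
    rw [f _ (h.vA (FB_z2V h (h.z12 z)))] at k
    exact k (conj_mem m z)
  have := eq_bot_of_norm h.pS hF hO (h.z12.trans (LL_z2S h)) (h.nS1.trans hn) fun E hE => by
    rcases hc E hE with rfl | rfl | ⟨s, hs, rfl⟩
    · exact ⟨h.z12.trans ((FB_z2V h).trans (FB_vE h)), hn⟩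
    · exact ⟨h.z12.trans ((FB_z2V h).trans (h.vX.trans h.xE2)), h.n2Z1⟩
    · exact absurd (LL_esU h hF hs hE) hU
  have e := h.lZ1
  rw [this, lg_bot] at e
  omega

theorem ext_A (h : D.Ok) (hF : Sat D.S) (hc : D.Cls) (h2 : ¬ Es D.S D.E₂) {b : Γ}
    (hb : b ∈ 𝐍(D.A)) : ∃ b' ∈ 𝐍(D.E₁), b'⁻¹ * b ∈ 𝐂(D.A) := by
  obtain ⟨b', m, f⟩ := LL_alp h hF hc le_rfl (fun e => absurd e h2) hb
  refine ⟨b', m, fun x hx => ?_⟩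
  calc x * (b'⁻¹ * b) = b'⁻¹ * (b' * x * b'⁻¹) * b := by group
    _ = b'⁻¹ * b * x := by rw [← f x hx]; group

theorem tau1 (h : D.Ok) (hF : Sat D.S) (h1 : ¬ 𝐍(D.E₁) ≤ 𝐍(D.Z₁)) :
    ∃ τ ∈ nc D.S 𝐍(D.E₁) 𝐂(D.E₁), τ ∈ 𝐍(D.S) ∧ Ev τ D.Z₁ ⊥ (-1) ∧ Ev τ D.Z₂ D.Z₁ (-1) := by
  haveI : Fact (Nat.Prime 3) := ⟨Nat.prime_three⟩
  have e : D.Z₂ ⊓ relCentralizer D.S ⊥ = D.Z₁ := by
    rw [rc_bot]
    exact le_antisymm ((inf_le_inf_right _ (LL_z2S h)).trans h.zS) (le_inf h.z12 (cent_symm h.cZ1))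
  obtain ⟨F, P, t⟩ := (par1 h hF).tv ((FB_z2V h).trans (FB_vE h)) (h.eaV.mono (FB_z2V h)).eq h.n1Z
    (norm_bot _) (comm_le_bot.2 (FB_e1c h)) (by rw [e, h.lZ1, h.lZ2]) (by rwa [e])
  obtain ⟨τ, t1, t2, -, t3, t4, -⟩ := t.tor (-1) (-1) (by decide)
  rw [h.sZ2, sup_bot_eq] at t3
  rw [e] at t4
  exact ⟨τ, pr_le t2, (mem_inf.1 t1).2, t3, t4⟩

theorem tau2 (h : D.Ok) (hF : Sat D.S) (h2 : Es D.S D.E₂) :
    ∃ τ ∈ nc D.S 𝐍(D.E₂) 𝐂(D.E₂), τ ∈ 𝐍(D.S) ∧ Ev τ D.Z₁ ⊥ 1 ∧ Ev τ D.Z₂ D.Z₁ (-1) := by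
  haveI : Fact (Nat.Prime 3) := ⟨Nat.prime_three⟩
  have e := inf_eq_left.2 (LL_sE2 h)
  have p := par_of h.pS hF (fn_of_norm h.e2S (LL_sE2 h)) (ess_cent h2) (by rw [e, h.l2, h.lS])
  rw [e] at p
  have z3 : D.Z₃ ≤ D.V := h.z34.trans h.z4V
  have v2 : D.V ≤ D.E₂ := h.vX.trans h.xE2
  obtain ⟨F, P, t⟩ := p.tv (z3.trans v2) ((h.eaV.mono z3).eq.mono bot_le (h.z12.trans h.z23) le_rfl)
    h.n2Z3 h.n2Z1 h.e2Z3 (by rw [h.r3, h.lZ3, h.lZ2]) (by rw [h.r3]; exact moves2 h hF h2)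
  obtain ⟨τ, t1, t2, -, t3, -⟩ := t.tor (-1) (-1) (by decide)
  rw [h.sZ3] at t3
  exact ⟨τ, pr_le t2, (mem_inf.1 t1).2, ev_one fun x hx => mem_bot.2 (comm_eq_one
    (p.cL0' (h.z12.trans ((FB_z2V h).trans v2)) h.n2Z1 h.cZ1 t2) hx), t3⟩

end H18.TH
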