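import Mathlib
import Cfsg.Agent.Base
import Cfsg.Agent.Lib.TH3.Defs
import Cfsg.Agent.Lib.TH3.LL

set_option autoImplicit false

namespace H18.TH

open Subgroup H2 H90 H91 H93.R3 Cfsg Cfsg.FusionSystem
open scoped commutatorElement Pointwise

local notation:max "𝐍(" A ")" => Subgroup.normalizer (SetLike.coe A)
local notation:max "𝐂(" A ")" => Subgroup.centralizer (SetLike.coe A)

universe u

variable {Γ : Type u} [Group Γ] [Finite Γ] {S E M T P Q : Subgroup Γ} {D : Dat Γ}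

section RE

variable {F : FusionSystem T}

theorem le_RE (hP : P ≤ T) : T ⊓ 𝐍(P) ⊔ 𝐂(P) ≤ RE F P := by
  exact sup_le (fun g hg => (mem_RE hP).2 ⟨(mem_inf.1 hg).2, map_cj F hP (mem_inf.1 hg).1⟩)
    fun g hg => (mem_RE hP).2 ⟨cent_le_norm _ hg, (map_id F hP).congr fun x hx => (conj_eq hg hx).symm⟩

theorem norm_RE (hi : Inv F (groupFusionSystem S)) (hP : P ≤ T) : 𝐍(P) ≤ 𝐍(RE F P) := by
  refine le_norm fun g hg r hr => ?_
  obtain ⟨r1, r2⟩ := (mem_RE hP).1 hr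
  have i := iso_cn (hP.trans hi.le) ((cn_le le_rfl hg).trans (hP.trans hi.le))
  rw [cn_eq hg] at i
  refine (mem_RE hP).2 ⟨mul_mem (mul_mem hg r1) (inv_mem hg), ?_⟩
  rw [map_mul, map_mul, map_inv]
  exact (hi.sinv.aut (r2.iso_self fun x hx => conj_mem r1 hx) i).map

theorem nc_le_RE (hi : Inv F (groupFusionSystem S)) (hP : P ≤ T) {A : Subgroup Γ}
    (hA : A ≤ T ⊓ 𝐍(P)) : nc A 𝐍(P) 𝐂(P) ≤ RE F P := by
  exact nc_le' (le_sup_right.trans (le_RE hP)) (hA.trans (le_sup_left.trans (le_RE hP))) (norm_RE hi hP)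

theorem RE_ext (hS : IsPGroup 3 S) (hF : Sat S) (hE : F.IsSaturated 3)
    (hs : F.IsSubsystemOf (groupFusionSystem S)) (hQP : Q ≤ P) (hP : P ≤ T) (hn : P ≤ 𝐍(Q))
    (hQ : (groupFusionSystem S).IsCentric Q) {g : Γ} (hg : g ∈ RE F Q) (hg' : g ∈ 𝐍(P)) :
    g ∈ RE F P := by
  haveI : Fact (Nat.Prime 3) := ⟨Nat.prime_three⟩
  have TS : T ≤ S := sub_le hs
  obtain ⟨g1, g2⟩ := (mem_RE (hQP.trans hP)).1 hg
  have hQ' : F.IsCentric Q := ⟨hQP.trans hP, fun R hR =>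
    le_trans (inf_le_inf_right _ TS) (hQ.2 R (isConj_of_sub hs hR))⟩
  obtain ⟨τ, hτ, e⟩ := (g2.iso_self fun x hx => conj_mem g1 hx).extend
    (receptive_of_centric (hS.to_le TS) hE hQ')
  have hle : P ≤ Next T Q (cj g) := fun x hx => mem_Next.2 ⟨mem_inf.2 ⟨hP hx, hn hx⟩, g * x * g⁻¹,
    hP (conj_mem hg' hx), fun y _ => by simp only [cj_apply]; group⟩
  obtain ⟨z, hz, ez⟩ := exists_conj_of_eq_on_centric hS hF hQ hQP ((hτ.mono hle).of_sub hs)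
    (iso_cn (hP.trans TS) ((cn_le le_rfl hg').trans (hP.trans TS))).map e
  have zP : z ∈ P := hQP (mem_inf.1 hz).1
  exact (mem_RE hP).2 ⟨hg', ((map_conj' F hP (hP zP)).comp (hτ.mono hle) fun x hx =>
    mul_mem (mul_mem zP hx) (inv_mem zP)).congr fun x hx => (ez x hx).symm⟩

theorem RE_inf (hS : IsPGroup 3 S) (hT : T ≤ S) (hE : F.IsSaturated 3) (hc : S ⊓ 𝐂(T) ≤ T) :
    S ⊓ RE F T ≤ T := by
  haveI : Fact (Nat.Prime 3) := ⟨Nat.prime_three⟩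
  intro x hx
  obtain ⟨x1, x2⟩ := (mem_RE le_rfl).1 (mem_inf.1 hx).2
  refine mem_of_conjAut_mem_inn hT hc (mem_inf.2 ⟨(mem_inf.1 hx).1, x1⟩) ?_
  rw [← (sylowIn_inn_top (hS.to_le hT) hE).2.2 (autInducedBy S T ⊓ F.autGroup T)
    ((isPGroup_autInducedBy hS T).to_le inf_le_left)
    (le_inf (inn_le_autInducedBy hT) (inn_le_autGroup F le_rfl)) inf_le_right]
  exact mem_inf.2 ⟨conjAut_mem (mem_inf.1 hx).1 _, mem_autGroup_of_map x2 fun y hy => extA_conjAut _ hy⟩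

end RE

theorem HB_unit (u : (ZMod 3)ˣ) (k : ℕ) (h : u ^ 3 ^ k = 1) : u = 1 := by
  have e : ∀ v : (ZMod 3)ˣ, v ^ 3 = v := by decide
  induction k with
  | zero => simpa using h
  | succ k ih => exact ih (by rwa [pow_succ, pow_mul, e] at h)

theorem exists_neg (h : D.Ok) (hF : Sat D.S) (hc : D.Cls) (hO : (groupFusionSystem D.S).core = ⊥)
    (h2 : ¬ Es D.S D.E₂) {F : FusionSystem T} (hE : F.IsSaturated 3)
    (hi : Inv F (groupFusionSystem D.S)) (hT : D.E₁ ≤ T) :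
    ∃ r ∈ RE F D.E₁, r ∈ 𝐍(D.S) ∧ Dt D.z₁ D.z₂ r (-1) := by
  haveI : Fact (Nat.Prime 3) := ⟨Nat.prime_three⟩
  have hU := es_U h hF hc hO h2
  have aS : D.A ≤ D.S := h.aE.trans h.e1S
  have aT : D.A ≤ T := h.aE.trans hT
  have aU : D.A ≤ 𝐍(D.U) := h.nU.ge.trans inf_le_right
  have zA : D.Z₂ ≤ D.A := (FB_z2V h).trans h.vA
  obtain ⟨b, b1, -, b2, b3, -⟩ := torus h hF hU
  have b4 : b ∈ RE F D.A := RE_ext h.pS hF hE hi.sub h.uA aT aU hU.1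
    (nc_le_RE hi (h.uA.trans aT) (le_inf aT aU) b1) b2
  obtain ⟨b', c1, c2⟩ := ext_A h hF hc h2 b2
  have e0 : b' = b * (b'⁻¹ * b)⁻¹ := by group
  have b5 : b' ∈ RE F D.E₁ := RE_ext h.pS hF hE hi.sub h.aE hT (h.nA.ge.trans inf_le_right)
    (isCentric_of_le hU.1 h.uA aS) (e0 ▸ mul_mem b4 (inv_mem (le_RE aT (mem_sup_right c2)))) c1
  obtain ⟨dt, hdt⟩ := exists_dt h
  let Dv : Γ → (ZMod 3)ˣ → Prop := fun x u => ∃ hx : x ∈ 𝐍(D.Z₂), dt ⟨x, hx⟩ = u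
  have mul : ∀ {x y u v}, Dv x u → Dv y v → Dv (x * y) (u * v) := fun {x y u v} ⟨p1, p2⟩ ⟨q1, q2⟩ =>
    ⟨mul_mem p1 q1, by rw [← p2, ← q2, ← map_mul]; rfl⟩
  have inv : ∀ {x u}, Dv x u → Dv x⁻¹ u⁻¹ := fun {x u} ⟨p1, p2⟩ =>
    ⟨inv_mem p1, by rw [← p2, ← map_inv]; rfl⟩
  have dc : ∀ x ∈ 𝐂(D.Z₂), Dv x 1 := fun x hx =>
    ⟨cent_le_norm _ hx, Units.ext ((hdt x _ 1).1 (dt_of_cent h hx))⟩
  have ds : ∀ x ∈ D.S, Dv x 1 := fun x hx => by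
    obtain ⟨k, hk⟩ := h.pS ⟨x, hx⟩
    refine ⟨h.n1Z (FB_sE1 h hx), HB_unit _ k ?_⟩
    rw [← map_pow, ← map_one dt]
    have hk' : x ^ 3 ^ k = 1 := congrArg Subtype.val hk
    exact congrArg dt (Subtype.ext hk')
  have nAZ : b ∈ 𝐍(D.Z₂) := by
    rw [← h.dA]
    exact norm_comm le_rfl le_rfl b2
  have db : Dv b' (-1) := by
    have := mul (⟨nAZ, Units.ext ((hdt b nAZ _).1 b3)⟩ : Dv b (-1)) (inv (dc _ (cent_anti zA c2)))
    rwa [← e0, inv_one, mul_one] at this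
  let K : Subgroup Γ := ⟨⟨⟨{x | Dv x 1}, fun p q => by simpa using mul p q⟩, ds 1 (one_mem _)⟩,
    fun p => by simpa using inv p⟩
  have zE : D.Z₂ ≤ D.E₁ := zA.trans h.aE
  have cR : 𝐂(D.E₁) ≤ RE F D.E₁ := le_sup_right.trans (le_RE hT)
  obtain ⟨c, hc', k⟩ := (par1 h hF).exists_conj (H := (RE F D.E₁ ⊔ D.S) ⊓ K)
    (sup_le (le_inf le_sup_right ds) (le_inf (cR.trans le_sup_left) fun x hx => dc x (cent_anti zE hx)))
    (inf_le_left.trans (sup_le (fun x hx => hx.1) (FB_sE1 h))) c1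
    (cn_le_iff.2 fun x hx => mem_inf.2 ⟨mul_mem (mul_mem (mem_sup_left b5) (mem_sup_right hx))
      (inv_mem (mem_sup_left b5)), by
        have := mul (mul db (ds x hx)) (inv db)
        rwa [mul_one, mul_inv_cancel] at this⟩)
  obtain ⟨β, β1, k, k1, e1⟩ := (mem_sup_iff' (norm_cent inf_le_left)).1 k
  have e2 : β = c * b' * k⁻¹ := by rw [e1]; group
  have β2 : β ∈ RE F D.E₁ ⊔ D.S := e2 ▸ mul_mem (mul_mem (mem_inf.1 hc').1 (mem_sup_left b5))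
    (inv_mem (mem_sup_left (cR k1)))
  obtain ⟨r, r1, s, s1, e3⟩ := (mem_sup_iff ((FB_sE1 h).trans (norm_RE hi hT))).1 β2
  have e4 : r = β * s⁻¹ := by rw [e3]; group
  have dr := mul (mul (mul (mem_inf.1 hc').2 db) (inv (dc _ (cent_anti zE k1)))) (inv (ds s s1))
  rw [← e2, ← e4, one_mul, inv_one, mul_one, mul_one] at dr
  obtain ⟨p1, p2⟩ := dr
  exact ⟨r, r1, e4 ▸ mul_mem (mem_inf.1 β1).2 (inv_mem (le_normalizer s1)), (hdt r p1 _).2 (by rw [p2]; rfl)⟩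

end H18.TH
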