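import Mathlib
import Cfsg.Agent.Base
import Cfsg.Agent.Lib.TH3.Defs
import Cfsg.Agent.Lib.TH3.LL

set_option autoImplicit false

namespace H18.TH

open Subgroup H2 H90 H91 H93.R3 Cfsg Cfsg.FusionSystem
open scoped commutatorElement Pointwise

local notation:max "𝐍(" A ")" => Subgroup.normalizer (SetLike.coe A)
local notation:max "𝐂(" A ")" => Subgroup.centralizer (SetLike.coe A)

universe u

variable {Γ : Type u} [Group Γ] [Finite Γ] {S E M T P Q : Subgroup Γ} {D : Dat Γ}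

theorem SC_zp (g z : Γ) : zpowers (g * z * g⁻¹) = cn g (zpowers z) := by
  refine le_antisymm (zpowers_le.2 (conj_mem_cn (mem_zpowers _))) (cn_le_iff.2 ?_)
  rintro _ ⟨k, rfl⟩
  exact ⟨k, conj_zpow⟩

theorem SC_cn (hT : (groupFusionSystem S).StronglyClosed T) {X : Subgroup Γ} {g : Γ} (h1 : X ≤ T)
    (h2 : cn g X ≤ S) : cn g X ≤ T :=
  cn_le_iff.2 fun _ hx => (iso_cn (h1.trans (stronglyClosed_iff_map.1 hT).1) h2).map.mem_of_stronglyClosed hT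
    hx (h1 hx)

theorem SC_norm (hT : (groupFusionSystem S).StronglyClosed T) (hP : P ≤ S) : 𝐍(P) ≤ 𝐍(T ⊓ P) :=
  le_norm fun _ hg => cn_le_iff.1 (le_inf (SC_cn hT inf_le_left ((cn_le inf_le_right hg).trans hP))
    (cn_le inf_le_right hg))

theorem SC_up (hS : IsPGroup 3 S) (hT : (groupFusionSystem S).StronglyClosed T) {X Y : Subgroup Γ} {g : Γ}
    (hY : Y ≤ S) (hX : X ≤ Y) (e : lg 3 Y ≤ lg 3 X + 1) (hg : g ∈ 𝐍(Y)) (hg' : g ∉ 𝐍(X)) (h1 : X ≤ T) :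
    Y ≤ T :=
  haveI : Fact (Nat.Prime 3) := ⟨Nat.prime_three⟩
  (le_sup_of_lg (hS.to_le hY) hX e (cn_le hX hg) fun f => hg' (mem_norm (cn_le_iff.1 f))).trans
    (sup_le h1 (SC_cn hT h1 ((cn_le hX hg).trans hY)))

theorem strongly_closed (h : D.Ok) (hF : Sat D.S) (hc : D.Cls)
    (hO : (groupFusionSystem D.S).core = ⊥) (hT : (groupFusionSystem D.S).StronglyClosed T)
    (h0 : T ≠ ⊥) : T = D.S ∨ (T = D.E₁ ∧ ¬ Es D.S D.E₂) := by
  haveI : Fact (Nat.Prime 3) := ⟨Nat.prime_three⟩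
  have TS : T ≤ D.S := (stronglyClosed_iff_map.1 hT).1
  have nT : D.S ≤ 𝐍(T) := le_normalizer_of_stronglyClosed hT
  have z2S := LL_z2S h
  have vS : D.V ≤ D.S := (FB_vE h).trans h.e1S
  have z1 : D.Z₁ ≤ T := by
    obtain ⟨⟨x, hx⟩, x1⟩ := ne_bot_iff_exists_ne_one.1 (om_ne_bot h.pS TS nT h0)
    have := mem_om.1 (mem_inf.1 hx).2
    exact le_of_ne_one (h.pS.to_le (h.z12.trans z2S)) h.lZ1.le (h.zS (mem_inf.2 ⟨this.1, this.2.1⟩))
      (fun e => x1 (Subtype.ext e)) (mem_inf.1 hx).1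
  have m1 := moves1 h hF hc hO
  obtain ⟨g, hg, hg'⟩ := SetLike.not_le_iff_exists.1 m1
  have z2 : D.Z₂ ≤ T := SC_up h.pS hT z2S h.z12 (by rw [h.lZ1, h.lZ2]) (h.n1Z hg) hg' z1
  have nW : 𝐍(D.E₁) ≤ 𝐍(T ⊓ D.V) := h.n1V.trans (SC_norm hT vS)
  have hW : T ⊓ D.V = D.Z₂ ∨ D.V ≤ T := by
    rcases h.uni _ ((FB_sE1 h).trans nW) (le_inf z2 (FB_z2V h)) inf_le_right with e | e | e | e
    · exact Or.inl e
    · exact absurd ((le_inf le_rfl (e ▸ nW)).trans h.n13) m1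
    · exact absurd ((le_inf le_rfl (e ▸ nW)).trans h.n14) m1
    · exact Or.inr (e.ge.trans inf_le_left)
  have fin : D.E₁ ≤ T → T = D.S ∨ T = D.E₁ := fun k =>
    (le_or_le h.pS h.e1S (by rw [h.lS, h.l1]) k).symm.imp (le_antisymm TS)
      fun e => le_antisymm ((le_inf TS le_rfl).trans e) k
  by_cases h2 : Es D.S D.E₂
  · have m2 := moves2 h hF h2
    obtain ⟨k, hk, hk'⟩ := SetLike.not_le_iff_exists.1 m2
    have z3V : D.Z₃ ≤ D.V := h.z34.trans h.z4V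
    have z3 : D.Z₃ ≤ T := SC_up h.pS hT (z3V.trans vS) h.z23 (by rw [h.lZ3, h.lZ2]) (h.n2Z3 hk) hk' z2
    have v : D.V ≤ T := hW.resolve_left fun e => by
      have := lg_mono (p := 3) ((le_inf z3 z3V).trans e.le)
      rw [h.lZ3, h.lZ2] at this
      omega
    have x : D.X ≤ T := SC_up h.pS hT (h.xE1.trans h.e1S) h.vX (by rw [h.lX, h.lV]) (h.n2X hk)
      (fun e => hk' (h.n2V (mem_inf.2 ⟨hk, e⟩))) v
    have zz : D.z₁ ∈ D.Z₁ := h.gz1.ge (mem_zpowers _)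
    have e1 : D.E₁ ≤ T := by
      refine h.nclX (g * D.z₁ * g⁻¹) (conj_mem (h.n1Z hg) (h.z12 zz)) (fun e => hg' ?_) T nT x
        (le_trans (fun y hy => ?_) (SC_cn hT x ((cn_le h.xE1 hg).trans h.e1S)))
      · refine mem_norm (cn_le_iff.1 ?_)
        rw [h.gz1, ← SC_zp, ← h.gz1]
        exact zpowers_le.2 e
      · rw [SC_zp, ← h.gz1] at hy
        have y2 := mem_rc.1 (mem_inf.1 hy).2
        rw [mem_cn, ← h.rX]
        refine mem_inf.2 ⟨conj_mem' hg (mem_inf.1 hy).1, mem_rc.2 ⟨?_, fun v hv => ?_⟩⟩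
        · rw [← mem_cn, ← cn_norm]; exact y2.1
        · have := mem_cn.1 (y2.2 _ (conj_mem (h.n1V hg) hv))
          convert this using 1
          simp only [commutatorElement_def]
          group
    refine Or.inl ((fin e1).resolve_right fun e => m2 ((le_inf le_rfl ?_).trans h.n26))
    rw [← e]
    exact SC_norm hT h.e2S
  · obtain ⟨M, hM⟩ := emb_of h.pS hF (es_U h hF hc hO h2)
    obtain ⟨a, ha, ha'⟩ := SetLike.not_le_iff_exists.1 hM.ne
    have uE : D.U ≤ D.E₁ := h.uA.trans h.aE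
    have k1 : cn a D.Z₂ ≤ D.U := cn_le (h.z2Y.trans h.yU) ha
    have k2 : cn a D.Z₂ ≤ T := SC_cn hT z2 (k1.trans (uE.trans h.e1S))
    have k3 := transv' h hM ha ha'
    have k4 := lg_sup (p := 3) (norm_of_cent (k1.trans h.eaU.comm) h.yU)
    rw [k3, lg_bot, lg_cn, h.lZ2, h.lY] at k4
    have k5 : D.U ≤ cn a D.Z₂ ⊔ D.Y :=
      le_of_lg (h.pS.to_le (uE.trans h.e1S)) (sup_le k1 h.yU) (by rw [h.lU]; omega)
    have v : D.V ≤ T := hW.resolve_left fun e => by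
      have : cn a D.Z₂ ≤ D.Y := fun m hm => h.uV (mem_inf.2 ⟨k1 hm, h.rV (mem_inf.2 ⟨uE (k1 hm),
        mem_rc.2 ⟨h.n1Z (le_normalizer (uE (k1 hm))), fun y hy => e.le (mem_inf.2
          ⟨comm_mem_l (nT (h.e1S hy)) (k2 hm), comm_mem h.c11 (uE (k1 hm)) hy⟩)⟩⟩)⟩)
      rw [inf_eq_left.2 this] at k3
      have f := lg_cn (p := 3) (g := a) (X := D.Z₂)
      rw [k3, lg_bot, h.lZ2] at f
      omega
    exact (fin (h.nclA T nT (h.aUV.trans (sup_le (k5.trans (sup_le k2 (h.yV.trans v))) v)))).imp_right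
      fun e => ⟨e, h2⟩

end H18.TH
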