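import Mathlib
import Cfsg.Agent.Base
import Cfsg.Agent.Lib.TH3.Defs
import Cfsg.Agent.Lib.TH3.HB
import Cfsg.Agent.Lib.TH3.SC
import Cfsg.Agent.Lib.TH3.FB

set_option autoImplicit false

namespace H18.TH

open Subgroup H2 H90 H91 H93.R3 Cfsg Cfsg.FusionSystem
open scoped commutatorElement Pointwise

local notation:max "𝐍(" A ")" => Subgroup.normalizer (SetLike.coe A)
local notation:max "𝐂(" A ")" => Subgroup.centralizer (SetLike.coe A)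

universe u

variable {Γ : Type u} [Group Γ] [Finite Γ] {S E M T P Q : Subgroup Γ} {D : Dat Γ}

theorem FN_c1 (h : D.Ok) : D.S ⊓ 𝐂(D.E₁) ≤ D.E₁ :=
  (inf_le_inf_left _ (cent_anti ((FB_z2V h).trans (FB_vE h)))).trans h.cZ2.le

theorem not_inv_E1 (h : D.Ok) (hF : Sat D.S) (hc : D.Cls) (hO : (groupFusionSystem D.S).core = ⊥)
    (h2 : ¬ Es D.S D.E₂) {F : FusionSystem D.E₁} (hE : F.IsSaturated 3) :
    ¬ Inv F (groupFusionSystem D.S) := by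
  haveI : Fact (Nat.Prime 3) := ⟨Nat.prime_three⟩
  intro hi
  obtain ⟨r, r1, r2, r3⟩ := exists_neg h hF hc hO h2 hE hi le_rfl
  obtain ⟨s, hs, hs'⟩ := (par1 h hF).exists_not_mem
  exact comm_not_mem h r2 r3 hs hs' (RE_inf h.pS h.e1S hE (FN_c1 h) (mem_inf.2 ⟨comm_mem_r r2 hs,
    comm_mem_l (norm_RE hi le_rfl (FB_sE1 h hs)) r1⟩))

theorem FN_ne : (-1 : ZMod 3) ≠ ((1 : ℤ) : ZMod 3) := by decide

theorem top_map (h : D.Ok) (hF : Sat D.S) (hc : D.Cls) (hO : (groupFusionSystem D.S).core = ⊥)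
    {F : FusionSystem D.S} (hE : F.IsSaturated 3) (hi : Inv F (groupFusionSystem D.S)) :
    𝐍(D.S) ≤ RE F D.S := by
  haveI : Fact (Nat.Prime 3) := ⟨Nat.prime_three⟩
  have nZ1 : 𝐍(D.S) ≤ 𝐍(D.Z₁) := h.nS2.trans h.n2Z1
  have nZ2 : 𝐍(D.S) ≤ 𝐍(D.Z₂) := h.nS1.trans h.n1Z
  have c1 : (groupFusionSystem D.S).IsCentric D.E₁ := isCentric_of_isFullyCentralized
    (centralized_of_normalized h.pS hF (fn_of_norm h.e1S (FB_sE1 h))) (FN_c1 h)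
  have ext : ∀ {Q : Subgroup Γ}, Q ≤ D.S → D.S ≤ 𝐍(Q) → (groupFusionSystem D.S).IsCentric Q →
      ∀ {g}, g ∈ RE F Q → g ∈ 𝐍(D.S) → g ∈ RE F D.S := fun q1 q2 q3 _ g1 g2 =>
    RE_ext h.pS hF hE hi.sub q1 le_rfl q2 q3 g1 g2
  have fin : ∀ {g k : Γ} {a e a' e' : ℤ}, g ∈ 𝐍(D.S) → k ∈ RE F D.S → Ev g D.Z₁ ⊥ a → Ev g D.Z₂ D.Z₁ e →
      Ev k D.Z₁ ⊥ a' → Ev k D.Z₂ D.Z₁ e' → a * a' = 1 → e * e' = 1 → g ∈ RE F D.S :=
    fun {g k a e a' e'} hg hk e1 e2 e3 e4 f1 f2 => by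
      obtain ⟨k1, k2⟩ := ev_mul h (nZ1 hg) e1 e2 e3 e4
      rw [f1] at k1
      rw [f2] at k2
      exact mem_of_mul (sup_le ((le_inf le_rfl le_normalizer).trans (le_sup_left.trans (le_RE le_rfl)))
        (le_sup_right.trans (le_RE le_rfl)) (top_le h hF (mul_mem hg hk.1) k1 k2)) hk
  obtain ⟨τ, t1, t2, t3, t4⟩ := tau1 h hF (moves1 h hF hc hO)
  have t5 : τ ∈ RE F D.S := ext h.e1S (FB_sE1 h) c1 (nc_le_RE hi h.e1S (le_inf le_rfl (FB_sE1 h)) t1) t2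
  obtain ⟨ρ, r1, r3, r4⟩ : ∃ ρ ∈ RE F D.S, Ev ρ D.Z₁ ⊥ 1 ∧ Ev ρ D.Z₂ D.Z₁ (-1) := by
    by_cases h2 : Es D.S D.E₂
    · obtain ⟨ρ, r1, r2, r3, r4⟩ := tau2 h hF h2
      exact ⟨ρ, ext h.e2S (LL_sE2 h) h2.1 (nc_le_RE hi h.e2S (le_inf le_rfl (LL_sE2 h)) r1) r2, r3, r4⟩
    obtain ⟨r, r1, r2, r3⟩ := exists_neg h hF hc hO h2 hE hi h.e1S
    have r4 := ext h.e1S (FB_sE1 h) c1 r1 r2
    obtain ⟨a, e, a1, a2, a3, a4, a5⟩ := exists_ev h (nZ1 r2) (nZ2 r2)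
    obtain ⟨dt, hdt⟩ := exists_dt h
    have a6 := ((hdt r (nZ2 r2) _).1 r3).symm.trans ((hdt r (nZ2 r2) _).1 a5)
    rcases a1 with rfl | rfl <;> rcases a2 with rfl | rfl
    · exact absurd a6 FN_ne
    · exact ⟨r, r4, a3, a4⟩
    · exact ⟨r * τ, mul_mem r4 t5, ev_mul h (nZ1 r2) a3 a4 t3 t4⟩
    · exact absurd a6 FN_ne
  have one : ∀ X Y : Subgroup Γ, Ev 1 X Y 1 := fun X Y => ev_one fun x _ => by simp
  intro g hg
  obtain ⟨a, e, a1, a2, a3, a4, -⟩ := exists_ev h (nZ1 hg) (nZ2 hg)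
  rcases a1 with rfl | rfl <;> rcases a2 with rfl | rfl
  · exact fin hg (one_mem _) a3 a4 (one _ _) (one _ _) rfl rfl
  · exact fin hg r1 a3 a4 r3 r4 rfl rfl
  · obtain ⟨k1, k2⟩ := ev_mul h (nZ1 t2) t3 t4 r3 r4
    exact fin hg (mul_mem t5 r1) a3 a4 k1 k2 rfl rfl
  · exact fin hg t5 a3 a4 t3 t4 rfl rfl

theorem simple_of_cls (h : D.Ok) (hF : Sat D.S) (hc : D.Cls)
    (hO : (groupFusionSystem D.S).core = ⊥) : (groupFusionSystem D.S).IsSimple 3 := by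
  haveI : Fact (Nat.Prime 3) := ⟨Nat.prime_three⟩
  refine ⟨hF, fun e => ?_, fun T F hN => ?_⟩
  · have := h.lS
    rw [e, lg_bot] at this
    omega
  have hi := IsNormalIn.inv hN
  have hE := (isNormalIn_iff.1 hN).1
  refine or_iff_not_imp_left.2 fun h0 => ?_
  rcases strongly_closed h hF hc hO hi.sc h0 with e | ⟨e, h2⟩
  · subst e
    rw [hi.eq_of_top fun σ hσ => by
      obtain ⟨g, hg, f⟩ := norm_of_iso hσ
      exact ((mem_RE le_rfl).1 (top_map h hF hc hO hE hi hg)).2.congr fun x hx => (f x hx).symm]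
    exact ⟨rfl, fun _ => rfl⟩
  · subst e
    exact absurd hi (not_inv_E1 h hF hc hO h2 hE)

end H18.TH
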